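import Groth.Agent.S0055
import Groth.Agent.AmpleVan.Pull
import Groth.Agent.AmpleDev.Basic
import Groth.Agent.PnCoh.PushNat
import Groth.Agent.QCoh.Ab.Restrict
import Groth.Agent.H23.TrivBasic
import Groth.Agent.ExistEasy.PP.HatLemmas
import Groth.Agent.Snapper.Main

/-!
# Euler characteristics along projective morphisms, after a large twist
-/

set_option autoImplicit false
set_option linter.style.haveILetI false
set_option linter.unusedSectionVars false
set_option backward.isDefEq.respectTransparency false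
set_option backward.isDefEq.respectTransparency.types false
set_option maxHeartbeats 1000000

universe u

open CategoryTheory CategoryTheory.Limits AlgebraicGeometry TopologicalSpace Opposite
open Groth.Agent.H23.PicMul

noncomputable section

namespace Groth.Agent.Nakai

open Groth.Agent

/-- The class of sheaves without higher direct images. -/
theorem natPushEquiv_of_Rpush_isZero {X Y : TopCat.{u}} (f : X ⟶ Y) (F : CohTop.Ab X)
    (hF : ∀ i : ℕ, IsZero ((CohTop.Rpush f (i + 1)).obj F)) (n : ℕ) : PnCoh.NatPushEquiv f F n := by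
  refine PnCoh.H_push_equiv_natural_of_class f (fun G => ∀ i : ℕ, IsZero ((CohTop.Rpush f (i + 1)).obj G))
    (fun {T} hT h₁ h₂ i => ?_) (fun {T} hT h₁ => ?_) F hF n
  · haveI := h₂
    let : HasDerivedCategory.{u + 1} (CohTop.Ab X) := HasDerivedCategory.standard _
    let : HasDerivedCategory.{u + 1} (CohTop.Ab Y) := HasDerivedCategory.standard _
    obtain ⟨δ, w₁, w₂, w₃, h₁', h₂', h₃'⟩ := TriCat.exists_rightDerived_ses (CohTop.push f) hT (i + 1)
    exact h₂'.isZero_X₂
      ((Functor.isZero_rightDerived_obj_injective_succ (CohTop.push f) i T.X₂).eq_of_src _ _)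
      ((h₁ (i + 1)).eq_of_tgt _ _)
  · exact QCoh.Ab.push_shortExact_of_isZero hT (h₁ 0)

variable {X Y : Scheme.{u}}

theorem isAmple_restrict_preimage (f : Y ⟶ X) [QuasiCompact f] {A : Y.Modules} (hA : CohB1.IsAmple A)
    {W : X.Opens} (hW : IsAffineOpen W) : CohB1.IsAmple (A.restrict (f ⁻¹ᵁ W).ι) := by
  haveI : CompactSpace ((f ⁻¹ᵁ W : Y.Opens) : Scheme.{u}) :=
    isCompact_iff_compactSpace.1 (f.isCompact_preimage hW.isCompact)
  exact AmpleX.isAmple_of_iso ((Scheme.Modules.restrictFunctorIsoPullback (f ⁻¹ᵁ W).ι).app A).symm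
    (AmpleVan.isAmple_pullback_of_isEmbedding _ (f ⁻¹ᵁ W).ι.isOpenEmbedding.isEmbedding hA)

theorem exists_affine_triv {r : ℕ} {L : Fin r → X.Modules} (hL : ∀ j, PicF.IsInvertible (L j)) (x : X) :
    ∃ V : X.Opens, IsAffineOpen V ∧ x ∈ V ∧ ∀ j, H23.TrivBasic.Triv ((Scheme.Modules.pullback V.ι).obj (L j)) := by
  choose U hxU ε hε using fun j => InvX.exists_frame (hL j) x
  obtain ⟨_, ⟨V, hV, rfl⟩, hxV, hVU⟩ := X.isBasis_affineOpens.exists_subset_of_mem_open
    (show x ∈ ((Finset.univ.inf U : X.Opens) : Set X) by simp [TopologicalSpace.Opens.coe_finset_inf, hxU]) (Finset.univ.inf U : X.Opens).2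
  refine ⟨V, hV, hxV, fun j => ?_⟩
  exact H23.TrivBasic.triv_of_frame ((InvX.isFrame_pullElt (Scheme.Opens.ι V) ((hε j).res (le_trans hVU (Finset.inf_le (Finset.mem_univ j))))).res
    (W := ⊤) (Scheme.Opens.ι_preimage_self V).ge)

theorem pullCl_comp' {Z : Scheme.{u}} (g : Z ⟶ Y) (f : Y ⟶ X) (M : X.Modules) :
    PicF.pullCl g (PicF.pullCl f (PicF.cl M)) = PicF.pullCl (g ≫ f) (PicF.cl M) :=
  cl_eq_iff.2 ⟨(Scheme.Modules.pullbackComp g f).app M⟩

theorem pullCl_pullback_tensorPows_eq_one {W : Scheme.{u}} (g : W ⟶ X) {r : ℕ} {L : Fin r → X.Modules}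
    (hL : ∀ j, H23.TrivBasic.Triv ((Scheme.Modules.pullback g).obj (L j))) (n : Fin r → ℕ) :
    PicF.pullCl g (∏ j, PicF.cl (L j) ^ n j) = 1 := by
  induction r with
  | zero => simp [pullCl_one]
  | succ r ih =>
    rw [Fin.prod_univ_succ, pullCl_mul, pullCl_pow, ih (fun j => hL j.succ) fun j => n j.succ, mul_one]
    rw [show PicF.pullCl g (PicF.cl (L 0)) = 1 from (cl_eq_iff.2 (hL 0)).trans H23.PicMul.one_def.symm, one_pow]

theorem isQCoh_twist {M N : Y.Modules} (hM : Coh.IsQCoh M) (hN : PicF.IsInvertible N) :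
    Coh.IsQCoh (CohB1.tensorMod M N) :=
  KFlatLib.isQCoh_tensor hM (ProjUPX.isQCoh_of_isInvertible hN)

variable (k : Type u) [Field k] [X.Over (Spec (CommRingCat.of k))] [Y.Over (Spec (CommRingCat.of k))]
  [IsProper (X ↘ Spec (CommRingCat.of k))] [IsProper (Y ↘ Spec (CommRingCat.of k))]

include k in
/-- Projection formula for Euler characteristics after a large ample twist. -/
theorem exists_euler_push (f : Y ⟶ X) (hf : f ≫ (X ↘ Spec (CommRingCat.of k)) = Y ↘ Spec (CommRingCat.of k))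
    {A : Y.Modules} (hA : CohB1.IsAmple A) {F : Y.Modules} (hF : Coh.IsCoh F) {r : ℕ} {L : Fin r → X.Modules}
    (hL : ∀ j, PicF.IsInvertible (L j)) :
    ∃ m₀, ∀ m, m₀ ≤ m → Coh.IsCoh ((Coh.push f).obj (CohB1.tensorMod F (CohB1.tensorPow A m))) ∧
      ∀ (N : X.Modules) (n : Fin r → ℕ), PicF.IsInvertible N → PicF.cl N = ∏ j, PicF.cl (L j) ^ n j →
        Curv2.euler k Y (CohB1.tensorMod (CohB1.tensorMod F (CohB1.tensorPow A m)) ((Scheme.Modules.pullback f).obj N)) =
          Curv2.euler k X (CohB1.tensorMod ((Coh.push f).obj (CohB1.tensorMod F (CohB1.tensorPow A m))) N) := by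
  classical
  haveI := CurveCohLib.isNoetherian_of_proper (k := k) (X := X)
  haveI := CurveCohLib.isNoetherian_of_proper (k := k) (X := Y)
  haveI : IsProper f := by
    haveI : IsProper (f ≫ (X ↘ Spec (CommRingCat.of k))) := by rw [hf]; infer_instance
    exact IsProper.of_comp f (X ↘ Spec (CommRingCat.of k))
  choose V hV hxV hVL using exists_affine_triv hL
  obtain ⟨t, ht⟩ := isCompact_univ.elim_finite_subcover (fun x : X => (V x : Set X)) (fun x => (V x).2)
    fun x _ => Set.mem_iUnion.2 ⟨x, hxV x⟩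
  have key : ∀ x : X, ∃ N₀, ∀ n, N₀ ≤ n → ∀ q, Subsingleton (Coh.HH ((f ⁻¹ᵁ V x : Y.Opens) : Scheme.{u})
      ((CohB1.tensorMod F (CohB1.tensorPow A n)).restrict (f ⁻¹ᵁ V x).ι) (q + 1)) := fun x => by
    let W : Y.Opens := f ⁻¹ᵁ V x
    letI : (W : Scheme.{u}).Over (Spec (CommRingCat.of Γ(X, V x))) := ⟨QCoh.overSpec f (hV x)⟩
    haveI : IsProper ((W : Scheme.{u}) ↘ Spec (CommRingCat.of Γ(X, V x))) := by
      show IsProper ((f ∣_ V x) ≫ (hV x).isoSpec.hom)
      infer_instance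
    haveI : IsNoetherianRing Γ(X, V x) := IsLocallyNoetherian.component_noetherian ⟨V x, hV x⟩
    obtain ⟨d, hd⟩ := AmpleVan.exists_vanishing (A := Γ(X, V x)) (isAmple_restrict_preimage f hA (hV x))
      (QCoh.isCoh_restrict_open (U := W) hF)
    refine ⟨d, fun n hn q => ?_⟩
    obtain ⟨e⟩ := cl_eq_iff.1 (S4474.cl_restrict_twist W F A n)
    exact S0055.HH_iso e _ (hd n hn q)
  choose N₀ hN₀ using key
  refine ⟨t.sup N₀, fun m hm => ?_⟩
  let G := CohB1.tensorMod F (CohB1.tensorPow A m)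
  have hG : Coh.IsCoh G := AmpleVan.isCoh_tensor hF (AmpleVan.isCoh_invertible (InvX.isInvertible_tensorPow hA.1 m))
  refine ⟨ExistEasy.isCoh_pushforward_proper f hG, fun N n hN hNn => ?_⟩
  have hN' := PicClLib.isInvertible_pullback f hN
  let H := CohB1.tensorMod G ((Scheme.Modules.pullback f).obj N)
  have hH : Coh.IsQCoh H := isQCoh_twist (M := G) hG.1 hN'
  have hzero : ∀ i : ℕ, IsZero ((Coh.RpushAb f (i + 1)).obj (Coh.toAb H)) := fun i => by
    refine CohBasic.isZero_RpushAb_of_HH f hH i (fun x : t => V x.1) (fun x => hV x.1) (fun y => ?_) fun x => ?_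
    · obtain ⟨x, hx, hy⟩ := Set.mem_iUnion₂.1 (ht (Set.mem_univ y))
      exact ⟨⟨x, hx⟩, hy⟩
    · obtain ⟨e⟩ : Nonempty (G.restrict (f ⁻¹ᵁ V x.1).ι ≅ H.restrict (f ⁻¹ᵁ V x.1).ι) := cl_eq_iff.1 (by
        rw [S4474.cl_restrict, S4474.cl_restrict, cl_tensor (CohB1.tensorMod F (CohB1.tensorPow A m)), pullCl_mul,
          show PicF.cl ((Scheme.Modules.pullback f).obj N) = PicF.pullCl f (PicF.cl N) from rfl,
          pullCl_comp', ← morphismRestrict_ι, ← pullCl_comp', hNn,
          pullCl_pullback_tensorPows_eq_one _ (hVL x.1), pullCl_one, mul_one])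
      exact S0055.HH_iso e _ (hN₀ x.1 m ((Finset.le_sup x.2).trans hm) i)
  have hcoh : ∀ i, Module.finrank k (Coh.HH Y H i) = Module.finrank k (Coh.HH X ((Coh.push f).obj H) i) := fun i =>
    (PnCoh.nonempty_linearEquiv_of_natPushEquiv k f hf H i
      (natPushEquiv_of_Rpush_isZero f.base (QCoh.abSheaf H) hzero i)).some.finrank_eq
  obtain ⟨e⟩ := AmpleDev.push_tensor_iso f hN G
  rw [CurveCohLib.euler_congr (k := k) e]
  unfold Curv2.euler
  exact finsum_congr fun i => by rw [hcoh i]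

end Groth.Agent.Nakai
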