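import Groth.Agent.Nakai.Small
import Groth.Agent.AmpleX.Sect
import Groth.Agent.AmpleX.SemiAmple
import Groth.Agent.VeryAmple.Cover
import Groth.Agent.Lib.InvEnd
import Groth.Agent.CohBasic.SnapperInt

/-!
# A power generated by its sections from ampleness on the zero locus of one section
-/

set_option linter.style.haveILetI false
set_option linter.unusedSectionVars false
set_option backward.isDefEq.respectTransparency false
set_option backward.isDefEq.respectTransparency.types false
set_option maxHeartbeats 1000000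

universe u

open CategoryTheory CategoryTheory.Limits AlgebraicGeometry TopologicalSpace Opposite
open Groth.Agent.H23.PicMul
open Groth.Agent.PnCoh.Finite (mapLin deltaLin)

noncomputable section

namespace Groth.Agent.Nakai

open Groth.Agent

variable {X Z : Scheme.{u}}

/-- A sequence of naturals decreasing along steps of `a` is eventually periodic. -/
theorem exists_periodic (f : ℕ → ℕ) {a n₀ : ℕ} (ha : 0 < a) (h : ∀ n, n₀ ≤ n → f (n + a) ≤ f n) :
    ∃ M, ∀ n, M ≤ n → f (n + a) = f n := by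
  classical
  let g : Fin a → ℕ → ℕ := fun r j => f (n₀ + r + j * a)
  have hg : ∀ r j, g r (j + 1) ≤ g r j := fun r j => by
    show f (n₀ + r + (j + 1) * a) ≤ _
    rw [add_mul, one_mul, ← add_assoc]
    exact h _ (Nat.le_add_right_of_le (Nat.le_add_right _ _))
  have hex : ∀ r, ∃ J, ∀ j, J ≤ j → g r (j + 1) = g r j := fun r => by
    have hne : (Set.range (g r)).Nonempty := ⟨_, 0, rfl⟩
    obtain ⟨J, hJ⟩ := Nat.sInf_mem hne
    have hanti : Antitone (g r) := antitone_nat_of_succ_le (hg r)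
    have hc : ∀ j, J ≤ j → g r j = g r J := fun j hj =>
      le_antisymm (hanti hj) (hJ ▸ Nat.sInf_le ⟨j, rfl⟩)
    exact ⟨J, fun j hj => (hc _ (hj.trans (Nat.le_succ j))).trans (hc j hj).symm⟩
  choose J hJ using hex
  refine ⟨n₀ + (Finset.univ.sup J + 1) * a, fun n hn => ?_⟩
  have hj : J ⟨(n - n₀) % a, Nat.mod_lt _ ha⟩ ≤ (n - n₀) / a := by
    refine le_trans (Finset.le_sup (Finset.mem_univ _)) ((Nat.le_div_iff_mul_le ha).2 ?_)
    rw [add_mul] at hn
    omega
  have := hJ _ _ hj
  simp only [g] at this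
  have e : n₀ + (n - n₀) % a + (n - n₀) / a * a = n := by
    rw [mul_comm _ a, add_assoc, Nat.mod_add_div]
    have : n₀ ≤ n := le_trans (Nat.le_add_right _ _) hn
    omega
  rw [add_mul, one_mul, ← add_assoc, e] at this
  exact this

/-- Loci along a morphism into a direct image. -/
theorem mem_locus_of_map {M : X.Modules} (hM : PicF.IsInvertible M) (j : Z ⟶ X) {G : Z.Modules}
    (π : M ⟶ (Coh.push j).obj G) (t : Γ(M, ⊤)) {z : Z}
    (hz : z ∈ AmpleX.locus (U := (⊤ : Z.Opens)) (show Γ(G, ⊤) from π.app ⊤ t)) :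
    j z ∈ AmpleX.locus t := by
  obtain ⟨V, hV, hzV, hVf⟩ := AmpleX.mem_locus.1 hz
  obtain ⟨U, hxU, e, he⟩ := InvX.exists_frame hM (j z)
  obtain ⟨g, hg⟩ := he.exists_coord le_rfl (AModX.res M (le_top : U ≤ ⊤) t)
  rw [AModX.res_self] at hg
  suffices hb : j z ∈ X.basicOpen g by
    rw [← AmpleX.locus_inf t le_top he hg] at hb
    exact hb.1
  let W := V ⊓ j ⁻¹ᵁ U
  have hW := hVf.res (inf_le_left : W ≤ V)
  rw [AModX.res_res] at hW
  let u : Γ(G, ⊤) := π.app ⊤ t
  let e' : Γ(G, j ⁻¹ᵁ U) := π.app U e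
  have hu : AModX.res G (le_top : W ≤ ⊤) u =
      AModX.resR (inf_le_right : W ≤ j ⁻¹ᵁ U) (j.app U g) • AModX.res G (inf_le_right : W ≤ j ⁻¹ᵁ U) e' := by
    rw [← AModX.res_smul, ← AModX.res_res (le_top : j ⁻¹ᵁ U ≤ ⊤) (inf_le_right : W ≤ j ⁻¹ᵁ U)]
    refine congrArg _ ?_
    exact ((AModX.app_res π (le_top : U ≤ ⊤) t).symm.trans
      ((congrArg (π.app U) hg).trans (Scheme.Modules.Hom.app_smul π g e))).trans (QCoh.pushforward_smul j U g e')
  obtain ⟨c, hc⟩ := hW.exists_coord le_rfl (AModX.res G (inf_le_right : W ≤ j ⁻¹ᵁ U) e')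
  rw [AModX.res_self] at hc
  have hone : AModX.resR (inf_le_right : W ≤ j ⁻¹ᵁ U) (j.app U g) * c = 1 := by
    refine hW.coord_unique le_rfl ?_
    rw [AModX.res_self, one_smul, mul_smul, ← hc]
    exact hu.symm
  have hzW : z ∈ W := ⟨hzV, hxU⟩
  have h1 : z ∈ Z.basicOpen (AModX.resR (inf_le_right : W ≤ j ⁻¹ᵁ U) (j.app U g)) := by
    rw [Scheme.basicOpen_of_isUnit _ (IsUnit.of_mul_eq_one c hone)]
    exact hzW
  rw [show AModX.resR (inf_le_right : W ≤ j ⁻¹ᵁ U) (j.app U g) =
    Z.presheaf.map (homOfLE (inf_le_right : W ≤ j ⁻¹ᵁ U)).op (j.app U g) from rfl, Scheme.basicOpen_res] at h1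
  have := h1.2
  rw [← Scheme.preimage_basicOpen] at this
  exact this

/-- The restriction of an invertible module to a closed subscheme is a quotient of it. -/
theorem epi_unit_closed (j : Z ⟶ X) [IsClosedImmersion j] {L : X.Modules} (hL : PicF.IsInvertible L) :
    Epi ((Scheme.Modules.pullbackPushforwardAdjunction j).unit.app L) := by
  let η := (Scheme.Modules.pullbackPushforwardAdjunction j).unit.app L
  have hq : Coh.IsQCoh ((Coh.push j).obj ((Scheme.Modules.pullback j).obj L)) :=
    QCoh.isQCoh_pushforward j (ProjUPX.isQCoh_of_isInvertible (PicClLib.isInvertible_pullback j hL))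
  have hco := QCoh.isQCoh_cokernel (ProjUPX.isQCoh_of_isInvertible hL) hq η
  refine Preadditive.epi_of_isZero_cokernel _ (CurveCohLib.isZero_of_subsingleton_stalks fun x => ?_)
  obtain ⟨U₀, hxU₀, e₀, he₀⟩ := InvX.exists_frame hL x
  obtain ⟨U, hU, hxU, hle⟩ := exists_isAffineOpen_mem_and_subset (x := x) (U := U₀) hxU₀
  have hns : x ∉ CohB1.support (cokernel η) := fun hs => by
    obtain ⟨m, hm⟩ := (QCoh.mem_support_iff hco hU hxU).1 hs
    refine hm 1 (by rw [Scheme.basicOpen_of_isUnit _ isUnit_one]; exact hxU) ?_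
    obtain ⟨v, rfl⟩ := QCoh.app_surjective_of_epi hq hco (cokernel.π η) hU m
    rw [one_smul]
    have he := he₀.res (show U ≤ U₀ from hle)
    obtain ⟨c, hc⟩ := (InvX.isFrame_pullElt j he).exists_coord le_rfl
      (show Γ((Scheme.Modules.pullback j).obj L, j ⁻¹ᵁ U) from v)
    rw [AModX.res_self] at hc
    obtain ⟨r, hr⟩ := j.app_surjective U hU c
    have : v = η.app U (r • AModX.res L (show U ≤ U₀ from hle) e₀) := by
      refine hc.trans ?_
      rw [← hr, ← InvX.pullElt_smul]
      rfl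
    rw [this]
    exact congr(($(cokernel.condition η)).app U _)
  exact not_not.1 hns

/-- A nonzero section of an invertible module generates somewhere. -/
theorem genLocus_nonempty [IsReduced X] {La : X.Modules} (hLa : PicF.IsInvertible La)
    (s : Coh.structureModule X ⟶ La) (hs : s ≠ 0) : (CohB1.genLocus La s : Set X).Nonempty := by
    rw [Set.nonempty_iff_ne_empty]
    intro h0
    have hbot : CohB1.genLocus La s = ⊥ := Opens.ext h0
    refine hs (CurveRR.hom_ext_one ?_)
    show InvX.one s = 0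
    exact AmpleX.eq_zero_of_locus_eq_bot hLa _ ((AmpleX.genLocus_eq_locus s).symm.trans hbot)

/-- The cokernel of a section is supported outside its generating locus. -/
theorem support_cokernel_subset {La : X.Modules} (hLa : PicF.IsInvertible La)
    (s : Coh.structureModule X ⟶ La) : CohB1.support (cokernel s) ⊆ (CohB1.genLocus La s : Set X)ᶜ := fun x hx hxU => by
  have hC := QCoh.isQCoh_cokernel QCoh.isQCoh_structureModule (ProjUPX.isQCoh_of_isInvertible hLa) s
  obtain ⟨W, hxW, hWf⟩ := InvX.mem_genLocus hxU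
  obtain ⟨W', hW', hxW', hle⟩ := exists_isAffineOpen_mem_and_subset (x := x) (U := W) hxW
  obtain ⟨m, hm⟩ := (QCoh.mem_support_iff hC hW' hxW').1 hx
  refine hm 1 (by rw [Scheme.basicOpen_of_isUnit _ isUnit_one]; exact hxW') ?_
  obtain ⟨v, rfl⟩ := QCoh.app_surjective_of_epi (ProjUPX.isQCoh_of_isInvertible hLa) hC (cokernel.π s) hW' m
  rw [one_smul]
  obtain ⟨c, hc⟩ := (hWf.res (show W' ≤ W from hle)).exists_coord le_rfl v
  rw [AModX.res_self, AModX.res_res] at hc
  have : v = s.app W' (c • AModX.res (Coh.structureModule X) (le_top : W' ≤ ⊤)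
      (show Γ(Coh.structureModule X, ⊤) from (1 : Γ(X, ⊤)))) := by
    rw [Scheme.Modules.Hom.app_smul, AModX.app_res]
    exact hc
  rw [this]
  exact congr(($(cokernel.condition s)).app W' _)

variable (k : Type u) [Field k] [X.Over (Spec (CommRingCat.of k))] [IsProper (X ↘ Spec (CommRingCat.of k))]

/-- Injectivity in degree one gives surjectivity on global sections. -/
theorem app_top_surjective_of_injective {S : ShortComplex X.Modules} (hS : S.ShortExact)
    (h : Function.Injective (mapLin k S.f 1)) : Function.Surjective (S.g.app ⊤) := fun q => by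
  have h0 : deltaLin k hS 0 ((Sheaf.H.equiv₀ (Coh.toAb S.X₃) isTerminalTop).symm q) = 0 := by
    have := (Euler.range_deltaLin k hS 0).le (LinearMap.mem_range_self (deltaLin k hS 0)
      ((Sheaf.H.equiv₀ (Coh.toAb S.X₃) isTerminalTop).symm q))
    exact h ((LinearMap.mem_ker.1 this).trans (map_zero _).symm)
  obtain ⟨y, hy⟩ := PnCoh.Finite.exists_of_deltaLin_eq_zero k hS 0 h0
  refine ⟨Sheaf.H.equiv₀ (Coh.toAb S.X₂) isTerminalTop y, ?_⟩
  refine (Sheaf.H.equiv₀_naturality isTerminalTop ((QCoh.toAbFunctor X).map S.g) y).trans ?_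
  exact (congrArg _ hy).trans (AddEquiv.apply_symm_apply _ _)

include k in
/-- Some power has sections without common zero. -/
theorem exists_locus_power [IsIntegral X] {L : X.Modules} (hL : PicF.IsInvertible L)
    (hsub : ∀ (W : Scheme.{u}) (i : W ⟶ X), IsClosedImmersion i → IsIntegral W → Set.range i ≠ Set.univ →
      CohB1.IsAmple ((Scheme.Modules.pullback i).obj L))
    {a : ℕ} (ha : 0 < a) (s : Coh.structureModule X ⟶ CohB1.tensorPow L a) (hs : s ≠ 0) :
    ∃ N, 0 < N ∧ ∀ x, ∃ t : Γ(CohB1.tensorPow L N, ⊤), x ∈ AmpleX.locus t := by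
  classical
  haveI := CurveCohLib.isNoetherian_of_proper (k := k) (X := X)
  let La := CohB1.tensorPow L a
  have hLa : PicF.IsInvertible La := InvX.isInvertible_tensorPow hL a
  let U := CohB1.genLocus La s
  have hUne : (U : Set X).Nonempty := genLocus_nonempty hLa s hs
  let T : Closeds X := ⟨(U : Set X)ᶜ, U.isOpen.isClosed_compl⟩
  let V := Scheme.IdealSheafData.vanishingIdeal T
  let j := V.subschemeι
  have hrj : Set.range j = (T : Set X) := H23.RedSub.range_vanishingIdeal T
  have hampT : ∀ (W : Scheme.{u}) (i : W ⟶ X), IsClosedImmersion i → IsIntegral W → Set.range i ⊆ (T : Set X) →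
      CohB1.IsAmple ((Scheme.Modules.pullback i).obj L) := fun W i h1 h2 h3 => hsub W i h1 h2 fun h => by
    obtain ⟨x, hx⟩ := hUne
    exact (h3 (h.ge (Set.mem_univ x))) hx
  letI : V.subscheme.Over (Spec (CommRingCat.of k)) := ⟨j ≫ (X ↘ Spec (CommRingCat.of k))⟩
  haveI : IsProper (V.subscheme ↘ Spec (CommRingCat.of k)) :=
    inferInstanceAs (IsProper (j ≫ (X ↘ Spec (CommRingCat.of k))))
  let Lj := (Scheme.Modules.pullback j).obj L
  have hLj : CohB1.IsAmple Lj := AmpleDev.isAmple_of_integral k (PicClLib.isInvertible_pullback j hL)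
    fun W i h1 h2 => by
      haveI := h1
      refine AmpleX.isAmple_of_iso ((Scheme.Modules.pullbackComp i j).app L).symm (hampT W (i ≫ j) inferInstance h2 ?_)
      rintro _ ⟨w, rfl⟩
      exact hrj.le ⟨i w, rfl⟩
  haveI := AmpleX.isSeparated_of_isAmple hLj
  haveI : CompactSpace V.subscheme := hLj.2.1
  obtain ⟨b, hb, κ, _, σ, -, -, hσ⟩ := AmpleX.exists_cover_genLocus hLj
  -- the quotient by the section
  let C := cokernel s
  have hCc : Coh.IsCoh C := QCoh.isCoh_cokernel QCoh.isQCoh_structureModule (AmpleVan.isCoh_invertible hLa) s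
  have hCT : CohB1.support C ⊆ (T : Set X) := support_cokernel_subset hLa s
  let η := (Scheme.Modules.pullbackPushforwardAdjunction j).unit.app La
  haveI : Epi η := epi_unit_closed j hLa
  have hsη : s ≫ η = 0 := CurveRR.hom_ext_one (by
    show η.app ⊤ (s.app ⊤ (H23.Frame.one ⊤)) = 0
    refine AmpleX.eq_zero_of_locus_eq_bot (PicClLib.isInvertible_pullback j hLa)
      (show Γ((Scheme.Modules.pullback j).obj La, j ⁻¹ᵁ ⊤) from InvX.pullElt j (InvX.one s)) ?_
    rw [AmpleX.locus_pullElt hLa, ← AmpleX.genLocus_eq_locus, eq_bot_iff]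
    exact fun z hz => (hrj.le ⟨z, rfl⟩) hz)
  let g := cokernel.desc s η hsη
  haveI : Epi g := epi_of_epi_fac (cokernel.π_desc s η hsη)
  let P := (Coh.push j).obj ((Scheme.Modules.pullback j).obj La)
  have hPc : Coh.IsCoh P := QCoh.isCoh_of_epi η (AmpleVan.isCoh_invertible hLa)
    (QCoh.isQCoh_pushforward j (ProjUPX.isQCoh_of_isInvertible (PicClLib.isInvertible_pullback j hLa)))
  have hKc := QCoh.isCoh_kernel hCc hPc g
  obtain ⟨nK, hK⟩ := small_of_support k hL hampT hKc
    ((QCoh.mem_support_of_mono hKc.1 hCc.1 (kernel.ι g)).trans hCT)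
  obtain ⟨nC, hC⟩ := small_of_support k hL hampT hCc hCT
  haveI : Mono s := InvEnd.mono_of_ne_zero CurveDeg.isInvertible_structureModule hLa s hs
  let S₁ : ShortComplex X.Modules := ShortComplex.mk s (cokernel.π s) (cokernel.condition s)
  have hS₁ : S₁.ShortExact :=
    .mk' (ShortComplex.exact_of_g_is_cokernel _ (cokernelIsCokernel s)) inferInstance inferInstance
  let S₂ : ShortComplex X.Modules := ShortComplex.mk (kernel.ι g) g (kernel.condition g)
  have hS₂ : S₂.ShortExact :=
    .mk' (ShortComplex.exact_of_f_is_kernel _ (kernelIsKernel g)) inferInstance inferInstance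
  -- the first cohomology of the powers
  let f : ℕ → ℕ := fun n => Module.finrank k (Coh.HH X
    (CohB1.tensorMod (Coh.structureModule X) (CohB1.tensorPow L n)) 1)
  have hT1 : ∀ n, nC ≤ n → Function.Surjective (mapLin k ((AmpleVan.tw (CohB1.tensorPow L n)).map s) 1) := fun n hn => by
    haveI := AmpleVan.isEquivalence_tw (InvX.isInvertible_tensorPow hL n)
    rw [← LinearMap.range_eq_top, eq_top_iff]
    intro x _
    refine ((Euler.range_mapLin_f k (hS₁.map_of_exact (AmpleVan.tw (CohB1.tensorPow L n))) 1).ge ?_)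
    exact LinearMap.mem_ker.2 ((hC n hn 0).elim _ _)
  have hiso : ∀ n, Nonempty (CohB1.tensorMod La (CohB1.tensorPow L n) ≅
      CohB1.tensorMod (Coh.structureModule X) (CohB1.tensorPow L (n + a))) := fun n => cl_eq_iff.1 (by
    rw [cl_tensor, cl_tensor, cl_tensorPow, cl_tensorPow, cl_tensorPow, ← H23.PicMul.one_def, one_mul, ← pow_add, add_comm])
  have hf : ∀ n, f (n + a) = Module.finrank k (Coh.HH X (CohB1.tensorMod La (CohB1.tensorPow L n)) 1) := fun n =>
    (CurveCohLib.hhEquiv (k := k) (hiso n).some.symm 1).finrank_eq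
  haveI hfin : ∀ n, Module.Finite k (Coh.HH X (CohB1.tensorMod (Coh.structureModule X) (CohB1.tensorPow L n)) 1) :=
    fun n => S0002.result k X _ (AmpleVan.isCoh_tensor QCoh.isCoh_structureModule'
      (AmpleVan.isCoh_invertible (InvX.isInvertible_tensorPow hL n))) 1
  obtain ⟨M₀, hM₀⟩ := exists_periodic f ha (n₀ := nC) fun n hn => by
    rw [hf]
    exact LinearMap.finrank_le_finrank_of_surjective (hT1 n hn)
  -- lift sections from the zero locus
  let r := M₀ + nC + nK + 1
  let N := r * b * a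
  have hr : r ≤ N := Nat.le_mul_of_pos_right _ ha |>.trans' (Nat.le_mul_of_pos_right _ hb)
  let n := N - a
  have hNa : a ≤ N := Nat.le_mul_of_pos_left _ (Nat.mul_pos (Nat.succ_pos _) hb)
  have hn : N = a + n := by omega
  have hN2 : r * a ≤ N := Nat.mul_le_mul_right a (Nat.le_mul_of_pos_right r hb)
  have hbound : M₀ + nC + nK ≤ n := by
    have h1 : r * a = (M₀ + nC + nK) * a + a := by show (M₀ + nC + nK + 1) * a = _; ring
    have h2 : M₀ + nC + nK ≤ (M₀ + nC + nK) * a := Nat.le_mul_of_pos_right _ ha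
    omega
  refine ⟨N, by omega, fun x => ?_⟩
  haveI := AmpleVan.isEquivalence_tw (InvX.isInvertible_tensorPow hL n)
  let F := AmpleVan.tw (CohB1.tensorPow L n)
  have hM : PicF.IsInvertible (F.obj La) := InvX.isInvertible_tensorMod hLa (InvX.isInvertible_tensorPow hL n)
  obtain ⟨φ⟩ : Nonempty (F.obj La ≅ CohB1.tensorPow L N) := cl_eq_iff.1 (by
    show PicF.cl (CohB1.tensorMod La (CohB1.tensorPow L n)) = _
    rw [cl_tensor, cl_tensorPow, cl_tensorPow, cl_tensorPow, ← pow_add, hn])
  suffices hx : ∃ t : Γ(F.obj La, ⊤), x ∈ AmpleX.locus t by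
    obtain ⟨t, ht⟩ := hx
    exact ⟨φ.hom.app ⊤ t, (AmpleX.locus_iso φ t).symm ▸ ht⟩
  by_cases hxT : x ∈ (T : Set X)
  · obtain ⟨z, rfl⟩ := hrj.ge hxT
    obtain ⟨c, hc⟩ := hσ z
    obtain ⟨σ', hσ'⟩ := VeryAmple.exists_genLocus_mul hLj.1 (σ c) (j := r * a) (Nat.mul_pos (Nat.succ_pos _) ha)
    let G := CohB1.tensorMod ((Scheme.Modules.pullback j).obj La) ((Scheme.Modules.pullback j).obj (CohB1.tensorPow L n))
    obtain ⟨v, hv⟩ := AmpleX.exists_locus_cl (N := G) (show PicF.cl (CohB1.tensorPow Lj (b * (r * a))) = PicF.cl G by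
      show _ = PicF.cl (CohB1.tensorMod _ _)
      rw [cl_tensor, show b * (r * a) = a + n from (by rw [← hn]; show _ = r * b * a; ring), cl_tensorPow, pow_add]
      show _ = PicF.pullCl j (PicF.cl La) * PicF.pullCl j (PicF.cl (CohB1.tensorPow L n))
      rw [cl_tensorPow, cl_tensorPow, pullCl_pow, pullCl_pow]
      rfl) (InvX.one σ')
    have hzv : z ∈ AmpleX.locus v := by
      rw [hv, ← AmpleX.genLocus_eq_locus, hσ']
      exact hc
    obtain ⟨ψ⟩ := AmpleDev.push_tensor_iso j (InvX.isInvertible_tensorPow hL n) ((Scheme.Modules.pullback j).obj La)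
    have hinj : Function.Injective (mapLin k (F.map s) 1) := by
      have hM' : Module.Finite k (Coh.HH X (F.obj La) 1) :=
        S0002.result k X _ (AmpleVan.isCoh_invertible hM) 1
      exact (@LinearMap.injective_iff_surjective_of_finrank_eq_finrank k (Coh.HH X (F.obj (Coh.structureModule X)) 1)
        _ _ _ (Coh.HH X (F.obj La) 1) _ _ (hfin n) hM'
        ((hM₀ n (by omega)).symm.trans (hf n)) (mapLin k (F.map s) 1)).2 (hT1 n (by omega))
    have hsurj₁ := app_top_surjective_of_injective k (hS₁.map_of_exact F) hinj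
    have hsurj₂ := QCoh.app_top_surjective_of_HH_one (hS₂.map_of_exact F) (hK n (by omega) 0)
    obtain ⟨w, hw⟩ := hsurj₂ (ψ.inv.app ⊤ v)
    obtain ⟨t, ht⟩ := hsurj₁ w
    refine ⟨t, mem_locus_of_map hM j (F.map η ≫ ψ.hom) t ?_⟩
    have h3 : (F.map η ≫ ψ.hom).app ⊤ t = v := by
      rw [show η = cokernel.π s ≫ g from (cokernel.π_desc s η hsη).symm, Functor.map_comp]
      show ψ.hom.app ⊤ ((F.map g).app ⊤ ((F.map (cokernel.π s)).app ⊤ t)) = v
      rw [show (F.map (cokernel.π s)).app ⊤ t = w from ht, show (F.map g).app ⊤ w = ψ.inv.app ⊤ v from hw]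
      exact congr(($(ψ.inv_hom_id)).app ⊤ v)
    show z ∈ AmpleX.locus (U := (⊤ : V.subscheme.Opens)) (show Γ(G, ⊤) from (F.map η ≫ ψ.hom).app ⊤ t)
    simp only [h3]
    exact hzv
  · obtain ⟨s', hs'⟩ := VeryAmple.exists_genLocus_mul hL s (j := r * b) (Nat.mul_pos (Nat.succ_pos _) hb)
    obtain ⟨t, ht⟩ := AmpleX.exists_locus_cl (N := F.obj La) (show PicF.cl (CohB1.tensorPow L (a * (r * b))) =
      PicF.cl (CohB1.tensorMod La (CohB1.tensorPow L n)) by
        rw [cl_tensor, show a * (r * b) = a + n from (by rw [← hn]; show _ = r * b * a; ring),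
          cl_tensorPow, cl_tensorPow, cl_tensorPow, pow_add]) (InvX.one s')
    refine ⟨t, ?_⟩
    rw [ht, ← AmpleX.genLocus_eq_locus, hs']
    exact not_not.1 hxT

end Groth.Agent.Nakai
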