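import Groth.Agent.Nakai.Kleiman
import Groth.Agent.AmpleDev.Nef
import Groth.Agent.Snapper.DimVanish
import Groth.Prelude.Def_Pic13

/-!
# Nefness in terms of degrees on curves
-/

set_option autoImplicit false
set_option linter.style.haveILetI false
set_option linter.unusedSectionVars false
set_option backward.isDefEq.respectTransparency false
set_option backward.isDefEq.respectTransparency.types false

universe u

open CategoryTheory CategoryTheory.Limits AlgebraicGeometry TopologicalSpace Opposite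
open Groth.Agent.H23.PicMul

noncomputable section

namespace Groth.Agent.Nakai

open Groth.Agent

variable (k : Type u) [Field k] {Y : Scheme.{u}}

theorem eulerCharLE_eq_euler [Y.Over (Spec (CommRingCat.of k))] [IsProper (Y ↘ Spec (CommRingCat.of k))] {d : ℕ}
    (hd : topologicalKrullDim Y ≤ d) {M : Y.Modules} (hM : Coh.IsQCoh M) :
    FGA.eulerCharLE k Y M d = Curv2.euler k Y M := by
  haveI := CurveCohLib.isNoetherian_of_proper (k := k) (X := Y)
  haveI : Y.IsSeparated := ⟨by
    rw [show terminal.from Y = (Y ↘ Spec (CommRingCat.of k)) ≫ terminal.from _ from terminal.hom_ext _ _]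
    infer_instance⟩
  exact (Euler.euler_eq_sum k M (d + 1) fun i hi => Snapper.subsingleton_HH_of_dim_le hd hM hi).symm

theorem curveDeg_eq_deg (p : Y ⟶ Spec (CommRingCat.of k)) [IsProper p] (hdim : topologicalKrullDim Y = 1)
    {L : Y.Modules} (hL : PicF.IsInvertible L) :
    Pic13.curveDeg k p L = @Curv2.deg k _ Y ⟨p⟩ L 1 := by
  letI : Y.Over (Spec (CommRingCat.of k)) := ⟨p⟩
  haveI : IsProper (Y ↘ Spec (CommRingCat.of k)) := inferInstanceAs (IsProper p)
  have hd : topologicalKrullDim Y ≤ ((1 : ℕ) : WithBot ℕ∞) := hdim.le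
  show FGA.eulerCharLE k Y L 1 - FGA.eulerCharLE k Y (Coh.structureModule Y) 1 = _
  rw [eulerCharLE_eq_euler k hd (ProjUPX.isQCoh_of_isInvertible hL),
    eulerCharLE_eq_euler k hd QCoh.isQCoh_structureModule]
  simp [Curv2.deg]

theorem coeff_one_eq_deg [Y.Over (Spec (CommRingCat.of k))] [IsProper (Y ↘ Spec (CommRingCat.of k))] [IsIntegral Y]
    (hdim : topologicalKrullDim Y = 1) {L : Y.Modules} (hL : PicF.IsInvertible L) {q : Polynomial ℚ}
    (hq : q.natDegree ≤ 1) (hqn : ∀ n, Snapper.χ k L (Coh.structureModule Y) n = q.eval (n : ℚ)) :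
    q.coeff 1 = (Curv2.deg k Y L 1 : ℚ) := by
  have h : ∀ n : ℕ, q.eval (n : ℚ) =
      ((Curv2.deg k Y (CohB1.tensorPow L n) 1 + Curv2.euler k Y (Coh.structureModule Y) : ℤ) : ℚ) := fun n => by
    rw [← hqn]
    refine congrArg Int.cast ?_
    refine (CurveCohLib.euler_congr (k := k) (cl_eq_iff.1 (show PicF.cl (CohB1.tensorMod (Coh.structureModule Y)
      (CohB1.tensorPow L n)) = PicF.cl (CohB1.tensorPow L n) from
        (cl_tensor _ _).trans (by rw [← H23.PicMul.one_def, one_mul]))).some).trans ?_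
    simp [Curv2.deg]
  have h1 := h 1
  have h0 := h 0
  rw [(S18840.deg_tensorPow k hdim hL 1).2, Polynomial.eval_eq_sum_range' (Nat.lt_succ_of_le hq)] at h1
  rw [(S18840.deg_tensorPow k hdim hL 0).2, Polynomial.eval_eq_sum_range' (Nat.lt_succ_of_le hq)] at h0
  simp [Finset.sum_range_succ] at h1 h0
  linarith

variable {X : Scheme.{u}} [X.Over (Spec (CommRingCat.of k))] [IsProper (X ↘ Spec (CommRingCat.of k))]

theorem nef_iff_deg {L : X.Modules} (hL : PicF.IsInvertible L) :
    Nef k L ↔ ∀ (Z : Scheme.{u}) (i : Z ⟶ X), IsClosedImmersion i → IsIntegral Z → topologicalKrullDim Z = 1 →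
      0 ≤ @Curv2.deg k _ Z ⟨i ≫ (X ↘ Spec (CommRingCat.of k))⟩ ((Scheme.Modules.pullback i).obj L) 1 := by
  refine forall₂_congr fun Z i => imp_congr_right fun hi => imp_congr_right fun hZ => imp_congr_right fun hdim => ?_
  haveI := hi
  haveI := hZ
  letI : Z.Over (Spec (CommRingCat.of k)) := ⟨i ≫ (X ↘ Spec (CommRingCat.of k))⟩
  haveI : IsProper (Z ↘ Spec (CommRingCat.of k)) :=
    inferInstanceAs (IsProper (i ≫ (X ↘ Spec (CommRingCat.of k))))
  haveI := CurveCohLib.isNoetherian_of_proper (k := k) (X := Z)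
  have hLi := PicClLib.isInvertible_pullback i hL
  have key : ∀ n, Snapper.χ k L ((Coh.push i).obj (Coh.structureModule Z)) n =
      Snapper.χ k ((Scheme.Modules.pullback i).obj L) (Coh.structureModule Z) n := fun n =>
    χ_push k i rfl hL QCoh.isQCoh_structureModule n
  constructor
  · intro h
    obtain ⟨q, hq, hqn⟩ := exists_poly k hLi QCoh.isCoh_structureModule' (C := (⊤ : Closeds Z))
      (fun x _ => trivial) (d := 1) ((Topology.IsInducing.subtypeVal.topologicalKrullDim_le).trans hdim.le)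
    have h' := h q hq fun n => (key n).trans (hqn n)
    rw [coeff_one_eq_deg k hdim hLi hq hqn] at h'
    exact_mod_cast h'
  · intro h q hq hqn
    rw [coeff_one_eq_deg k hdim hLi hq fun n => (key n).symm.trans (hqn n)]
    exact_mod_cast h

theorem nef_iff_curveDeg {L : X.Modules} (hL : PicF.IsInvertible L) :
    Nef k L ↔ ∀ (Z : Scheme.{u}) (i : Z ⟶ X) [IsClosedImmersion i], IsIntegral Z → topologicalKrullDim Z = 1 →
      0 ≤ Pic13.curveDeg k (i ≫ (X ↘ Spec (CommRingCat.of k))) ((Scheme.Modules.pullback i).obj L) := by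
  rw [nef_iff_deg k hL]
  refine forall₂_congr fun Z i => ⟨fun h hi hZ hdim => ?_, fun h hi hZ hdim => ?_⟩
  · rw [curveDeg_eq_deg k _ hdim (PicClLib.isInvertible_pullback i hL)]
    exact h hi hZ hdim
  · haveI := hi
    have := h hZ hdim
    rwa [curveDeg_eq_deg k _ hdim (PicClLib.isInvertible_pullback i hL)] at this

/-- Nefness follows from ampleness of `L^ν ⊗ A` for all positive `ν`. -/
theorem nef_of_isAmple {L A : X.Modules} (hL : PicF.IsInvertible L) (hA : PicF.IsInvertible A)
    (h : ∀ ν : ℕ, 0 < ν → CohB1.IsAmple (CohB1.tensorMod (CohB1.tensorPow L ν) A)) : Nef k L := by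
  refine (nef_iff_deg k hL).2 fun Z i hi hZ hdim => ?_
  haveI := hi
  haveI := hZ
  letI : Z.Over (Spec (CommRingCat.of k)) := ⟨i ≫ (X ↘ Spec (CommRingCat.of k))⟩
  haveI : IsProper (Z ↘ Spec (CommRingCat.of k)) :=
    inferInstanceAs (IsProper (i ≫ (X ↘ Spec (CommRingCat.of k))))
  let L' := (Scheme.Modules.pullback i).obj L
  let A' := (Scheme.Modules.pullback i).obj A
  have hL' : PicF.IsInvertible L' := PicClLib.isInvertible_pullback i hL
  have hA' : PicF.IsInvertible A' := PicClLib.isInvertible_pullback i hA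
  by_contra hneg
  rw [not_le] at hneg
  let ν := (Curv2.deg k Z A' 1).toNat + 1
  have hamp := AmpleDev.isAmple_pullback_finite k i (h ν (Nat.succ_pos _))
  have hpos := S18840.deg_pos_of_ample k hdim hamp
  obtain ⟨φ⟩ : Nonempty ((Scheme.Modules.pullback i).obj (CohB1.tensorMod (CohB1.tensorPow L ν) A) ≅
      (DCoh.tensorBi.obj (CohB1.tensorPow L' ν)).obj A') := cl_eq_iff.1 (by
    show PicF.pullCl i (PicF.cl (CohB1.tensorMod (CohB1.tensorPow L ν) A)) =
      PicF.cl (CohB1.tensorMod (CohB1.tensorPow L' ν) A')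
    rw [cl_tensor, cl_tensor, cl_tensorPow, cl_tensorPow, pullCl_mul, pullCl_pow]
    rfl)
  rw [CurveRR.deg_congr k φ 1, CurveRR.deg_tensor k hdim (InvX.isInvertible_tensorPow hL' ν) hA',
    (S18840.deg_tensorPow k hdim hL' ν).2] at hpos
  have h1 : Curv2.deg k Z L' 1 ≤ -1 := Int.le_sub_one_iff.2 hneg
  have h2 : (ν : ℤ) * Curv2.deg k Z L' 1 ≤ (ν : ℤ) * -1 := mul_le_mul_of_nonneg_left h1 (by positivity)
  have h3 : Curv2.deg k Z A' 1 < (ν : ℤ) := by
    have := Int.self_le_toNat (Curv2.deg k Z A' 1)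
    simp only [ν]
    push_cast
    omega
  linarith

include k in
/-- `L^ν ⊗ A` is ample for nef `L` and ample `A`. -/
theorem isAmple_tensor_of_nef {L A : X.Modules} (hL : PicF.IsInvertible L) (hn : Nef k L) (hA : CohB1.IsAmple A)
    (ν : ℕ) : CohB1.IsAmple (CohB1.tensorMod (CohB1.tensorPow L ν) A) := by
  refine AmpleX.isAmple_of_iso (cl_eq_iff.1 ?_).some (isAmple_comb k hL hn hA ν one_pos)
  rw [cl_comb, cl_tensor, cl_tensorPow, pow_one]

end Groth.Agent.Nakai
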