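import Groth.Agent.Nakai.NefProper
import Groth.Agent.Nakai.KleimanDeg
import Groth.Agent.AVHomLib.CurveExist
import Groth.Agent.MorLib.GeomFibre
import Groth.Agent.CurveFinMap.Degree

/-!
# Corollaries: effective strictly nef modules, nefness along surjections
-/

set_option autoImplicit false
set_option linter.style.haveILetI false
set_option linter.unusedSectionVars false
set_option backward.isDefEq.respectTransparency false
set_option backward.isDefEq.respectTransparency.types false
set_option maxHeartbeats 1000000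

universe u

open CategoryTheory CategoryTheory.Limits AlgebraicGeometry TopologicalSpace Opposite
open Groth.Agent.H23.PicMul

noncomputable section

namespace Groth.Agent.Nakai

open Groth.Agent

variable (k : Type u) [Field k] {X W : Scheme.{u}} [X.Over (Spec (CommRingCat.of k))]

/-- Positive degree on all integral curves. -/
def SPos (L : X.Modules) : Prop :=
  ∀ (Z : Scheme.{u}) (i : Z ⟶ X), IsClosedImmersion i → IsIntegral Z → topologicalKrullDim Z = (1 : ℕ) →
    ∀ q : Polynomial ℚ, q.natDegree ≤ 1 →
      (∀ n, Snapper.χ k L ((Coh.push i).obj (Coh.structureModule Z)) n = q.eval (n : ℚ)) → 0 < q.coeff 1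

theorem SPos.pullback [W.Over (Spec (CommRingCat.of k))] (i : W ⟶ X) [IsClosedImmersion i]
    (hi : i ≫ (X ↘ Spec (CommRingCat.of k)) = W ↘ Spec (CommRingCat.of k)) {L : X.Modules}
    (hL : PicF.IsInvertible L) (h : SPos k L) : SPos k ((Scheme.Modules.pullback i).obj L) := by
  intro Z j hj hZ hdim q hq hqn
  haveI := hj
  refine h Z (j ≫ i) inferInstance hZ hdim q hq fun n => ?_
  let e : (Coh.push i).obj ((Coh.push j).obj (Coh.structureModule Z)) ≅ (Coh.push (j ≫ i)).obj (Coh.structureModule Z) :=
    (Scheme.Modules.pushforwardComp j i).app _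
  refine ((χ_congr k e n).symm.trans ?_).trans (hqn n)
  exact χ_push k i hi hL (QCoh.isQCoh_pushforward j QCoh.isQCoh_structureModule) n

/-- Some power has a nonzero section on every integral closed subscheme. -/
def Eff (L : X.Modules) : Prop :=
  ∀ (Z : Scheme.{u}) (i : Z ⟶ X), IsClosedImmersion i → IsIntegral Z →
    ∃ (a : ℕ) (_ : 0 < a) (s : Coh.structureModule Z ⟶ CohB1.tensorPow ((Scheme.Modules.pullback i).obj L) a), s ≠ 0

theorem Eff.pullback (i : W ⟶ X) [IsClosedImmersion i] {L : X.Modules} (h : Eff L) :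
    Eff ((Scheme.Modules.pullback i).obj L) := fun Z j hj hZ => by
  haveI := hj
  obtain ⟨a, ha, s, hs⟩ := h Z (j ≫ i) inferInstance hZ
  obtain ⟨e⟩ : Nonempty (CohB1.tensorPow ((Scheme.Modules.pullback (j ≫ i)).obj L) a ≅
      CohB1.tensorPow ((Scheme.Modules.pullback j).obj ((Scheme.Modules.pullback i).obj L)) a) := cl_eq_iff.1 (by
    rw [cl_tensorPow, cl_tensorPow, cl_eq_iff.2 ⟨((Scheme.Modules.pullbackComp j i).app L).symm⟩]; rfl)
  exact ⟨a, ha, s ≫ e.hom, fun h => hs (by rw [← cancel_mono e.hom, h, zero_comp])⟩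

theorem Eff.self [IsIntegral X] {L : X.Modules} (_hL : PicF.IsInvertible L) (h : Eff L) :
    ∃ (a : ℕ) (_ : 0 < a) (s : Coh.structureModule X ⟶ CohB1.tensorPow L a), s ≠ 0 := by
  obtain ⟨a, ha, s, hs⟩ := h X (𝟙 X) inferInstance inferInstance
  obtain ⟨e⟩ : Nonempty (CohB1.tensorPow ((Scheme.Modules.pullback (𝟙 X)).obj L) a ≅ CohB1.tensorPow L a) :=
    cl_eq_iff.1 (by rw [cl_tensorPow, cl_tensorPow, cl_eq_iff.2 ⟨(Scheme.Modules.pullbackId X).app L⟩]; rfl)
  exact ⟨a, ha, s ≫ e.hom, fun h => hs (by rw [← cancel_mono e.hom, h, zero_comp])⟩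

variable [IsProper (X ↘ Spec (CommRingCat.of k))]

include k in
theorem isAmple_of_eff_integral : ∀ (d : ℕ) {X : Scheme.{u}} [X.Over (Spec (CommRingCat.of k))]
    [IsProper (X ↘ Spec (CommRingCat.of k))] [IsIntegral X], topologicalKrullDim X ≤ d →
    ∀ {L : X.Modules}, PicF.IsInvertible L → SPos k L → Eff L → CohB1.IsAmple L := by
  intro d
  induction d using Nat.strong_induction_on with
  | _ d ih =>
    intro X _ _ _ hdim L hL hpos heff
    haveI := CurveCohLib.isNoetherian_of_proper (k := k) (X := X)
    obtain ⟨e, he⟩ : ∃ e : ℕ, topologicalKrullDim X = e := by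
      haveI : Nonempty (IrreducibleCloseds X) :=
        ⟨⟨Set.univ, IrreducibleSpace.isIrreducible_univ X, isClosed_univ⟩⟩
      have h0 : (0 : WithBot ℕ∞) ≤ topologicalKrullDim X := Order.krullDim_nonneg
      revert hdim h0
      generalize topologicalKrullDim X = v
      intro hdim h0
      cases v with
      | bot => exact absurd h0 (not_le.2 (WithBot.bot_lt_coe _))
      | coe v =>
        cases v with
        | top => exact absurd (WithBot.coe_le_coe.1 hdim) (not_le.2 (ENat.natCast_lt_top d))
        | coe v => exact ⟨v, rfl⟩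
    have hed : e ≤ d := by exact_mod_cast he ▸ hdim
    rcases Nat.eq_zero_or_pos e with rfl | hepos
    · haveI : Subsingleton X := by
        refine ⟨fun x y => ?_⟩
        have huniv : ∀ z : X, closure ({z} : Set X) = Set.univ := fun z => by
          refine Snapper.eq_of_dim_eq isClosed_closure (IrreducibleSpace.isIrreducible_univ X) (Set.subset_univ _)
            (d := 0) ((Topology.IsInducing.subtypeVal.topologicalKrullDim_le).trans he.le) (le_antisymm ?_ ?_)
          · exact (Topology.IsInducing.subtypeVal.topologicalKrullDim_le).trans he.le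
          · haveI : Nonempty ↥(closure ({z} : Set X)) := ⟨⟨z, subset_closure rfl⟩⟩
            haveI : Nonempty (IrreducibleCloseds ↥(closure ({z} : Set X))) :=
              ⟨⟨closure {⟨z, subset_closure rfl⟩}, isIrreducible_singleton.closure, isClosed_closure⟩⟩
            exact Order.krullDim_nonneg
        exact (inseparable_iff_closure_eq.2 ((huniv x).trans (huniv y).symm)).eq
      exact AmpleX.isAmple_of_isQuasiAffine hL
    · have hsub : ∀ (W : Scheme.{u}) (i : W ⟶ X), IsClosedImmersion i → IsIntegral W → Set.range i ≠ Set.univ →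
          CohB1.IsAmple ((Scheme.Modules.pullback i).obj L) := fun W i h1 h2 h3 => by
        haveI := h1
        letI : W.Over (Spec (CommRingCat.of k)) := ⟨i ≫ (X ↘ Spec (CommRingCat.of k))⟩
        haveI : IsProper (W ↘ Spec (CommRingCat.of k)) :=
          inferInstanceAs (IsProper (i ≫ (X ↘ Spec (CommRingCat.of k))))
        refine ih (e - 1) (by omega) ?_ (PicClLib.isInvertible_pullback i hL) (SPos.pullback k i rfl hL hpos) (Eff.pullback i heff)
        have hr : IsClosed (Set.range i) := i.isClosedEmbedding.isClosed_range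
        have hfin : topologicalKrullDim X ≠ ⊤ := by
          rw [he]
          exact (lt_of_lt_of_le (WithBot.coe_lt_coe.2 (ENat.natCast_lt_top e)) le_top).ne
        have hlt := H23.TopDim.dim_lt_of_ssubset hfin hr h3
        rw [← AmpleDev.dim_eq_one_of_closedImmersion i rfl, he] at hlt
        revert hlt
        generalize topologicalKrullDim W = v
        intro hlt
        cases v with
        | bot => exact bot_le
        | coe v =>
          refine WithBot.coe_le_coe.2 ((ENat.lt_add_one_iff (ENat.natCast_ne_top (e - 1))).1 ?_)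
          rw [show e = e - 1 + 1 by omega] at hlt
          have hlt' : v < ((e - 1 + 1 : ℕ) : ℕ∞) := WithBot.coe_lt_coe.1 hlt
          rwa [Nat.cast_add, Nat.cast_one] at hlt'
      obtain ⟨a, ha, s, hs⟩ := Eff.self hL heff
      obtain ⟨N, hN, hgen⟩ := exists_locus_power k hL hsub ha s hs
      refine AmpleX.isAmple_of_tensorPow hL hN
        (AVAmple.isAmple_of_nontriv (X ↘ Spec (CommRingCat.of k)) (InvX.isInvertible_tensorPow hL N)
          (fun x => ?_) fun {C} j hj hC hT => ?_)
      · obtain ⟨t, ht⟩ := hgen x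
        obtain ⟨V, hV, hxV, hVf⟩ := AmpleX.mem_locus.1 ht
        exact ⟨t, H23.TrivBasic.mem_locus_iff.2 ⟨V, hxV, hVf⟩⟩
      haveI := hj
      haveI := hC
      by_cases hs' : (Set.range j).Subsingleton
      · haveI : Subsingleton C := ⟨fun a b => j.isClosedEmbedding.injective (hs' ⟨a, rfl⟩ ⟨b, rfl⟩)⟩
        exact Finite.of_subsingleton
      exfalso
      have hirr : IsIrreducible (Set.range j) := by
        rw [← Set.image_univ]
        exact (IrreducibleSpace.isIrreducible_univ C).image j j.continuous.continuousOn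
      obtain ⟨D, hDi, hDd, hDs⟩ := AmpleDev.exists_curve _ j.isClosedEmbedding.isClosed_range hirr hs'
      haveI := hDi
      obtain ⟨g, hg⟩ := H23.RedSub.exists_lift_closed D.subschemeι j
        (by rw [Scheme.IdealSheafData.range_subschemeι]; exact hDs)
      have hTD : H23.TrivBasic.Triv ((Scheme.Modules.pullback D.subschemeι).obj (CohB1.tensorPow L N)) :=
        (H23.TrivBasic.triv_congr hg).1 ((H23.TrivBasic.triv_comp_iff g j).1 (hT.pullback g))
      letI : D.subscheme.Over (Spec (CommRingCat.of k)) := ⟨D.subschemeι ≫ (X ↘ Spec (CommRingCat.of k))⟩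
      haveI : IsProper (D.subscheme ↘ Spec (CommRingCat.of k)) :=
        inferInstanceAs (IsProper (D.subschemeι ≫ (X ↘ Spec (CommRingCat.of k))))
      haveI := CurveCohLib.isNoetherian_of_proper (k := k) (X := D.subscheme)
      have hDdim : topologicalKrullDim D.subscheme = (1 : ℕ) := (AmpleDev.dim_eq_one_of_closedImmersion D.subschemeι D.range_subschemeι).trans (by rw [hDd]; rfl)
      have hLD := PicClLib.isInvertible_pullback D.subschemeι hL
      obtain ⟨q, hq, hqn⟩ := exists_poly k hLD QCoh.isCoh_structureModule' (C := (⊤ : Closeds D.subscheme))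
        (fun x _ => trivial) (d := 1) ((Topology.IsInducing.subtypeVal.topologicalKrullDim_le).trans hDdim.le)
      have hlead := hpos D.subscheme D.subschemeι inferInstance hDi hDdim q hq fun n =>
        (χ_push k D.subschemeι rfl hL QCoh.isQCoh_structureModule n).trans (hqn n)
      have hcl : PicF.cl ((Scheme.Modules.pullback D.subschemeι).obj L) ^ N = 1 := by
        have := cl_eq_iff.2 hTD
        rw [← H23.PicMul.one_def] at this
        rw [← this]
        show _ = PicF.pullCl _ (PicF.cl (CohB1.tensorPow L N))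
        rw [cl_tensorPow, pullCl_pow]
        rfl
      have hper : q.eval ((N : ℕ) : ℚ) = q.eval ((0 : ℕ) : ℚ) := by
        rw [← hqn, ← hqn]
        refine congrArg Int.cast (CurveCohLib.euler_congr (k := k) ((cl_eq_iff.1 ?_).some))
        show PicF.cl (CohB1.tensorMod _ (CohB1.tensorPow _ N)) = PicF.cl (CohB1.tensorMod _ (CohB1.tensorPow _ 0))
        rw [cl_tensor, cl_tensor, cl_tensorPow, cl_tensorPow, hcl, pow_zero]
      rw [Polynomial.eval_eq_sum_range' (Nat.lt_succ_of_le hq), Polynomial.eval_eq_sum_range' (Nat.lt_succ_of_le hq)]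
        at hper
      simp [Finset.sum_range_succ] at hper
      exact (mul_ne_zero hlead.ne' (Nat.cast_ne_zero.2 hN.ne')) (by simpa using hper)


include k in
/-- Strictly nef modules with effective restrictions are ample. -/
theorem isAmple_of_eff {L : X.Modules} (hL : PicF.IsInvertible L) (h : SPos k L) (he : Eff L) : CohB1.IsAmple L := by
  refine AmpleDev.isAmple_of_integral k hL fun Z i h1 h2 => ?_
  haveI := h1
  letI : Z.Over (Spec (CommRingCat.of k)) := ⟨i ≫ (X ↘ Spec (CommRingCat.of k))⟩
  haveI : IsProper (Z ↘ Spec (CommRingCat.of k)) :=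
    inferInstanceAs (IsProper (i ≫ (X ↘ Spec (CommRingCat.of k))))
  obtain ⟨d, hd⟩ := ShStabLib.exists_dim_le_proper k Z
  exact isAmple_of_eff_integral k d (by simpa using (Homeomorph.Set.univ Z).isHomeomorph.topologicalKrullDim_eq ▸ hd Set.univ)
    (PicClLib.isInvertible_pullback i hL) (h.pullback k i rfl hL) (he.pullback i)

theorem coeff_one_eq_sub {L M : X.Modules} {q : Polynomial ℚ} (hq : q.natDegree ≤ 1)
    (hqn : ∀ n, Snapper.χ k L M n = q.eval (n : ℚ)) :
    q.coeff 1 = (Curv2.euler k X (CohB1.tensorMod M L) : ℚ) - (Curv2.euler k X M : ℚ) := by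
  have h1 := hqn 1
  have h0 := hqn 0
  rw [Polynomial.eval_eq_sum_range' (Nat.lt_succ_of_le hq)] at h1 h0
  simp [Finset.sum_range_succ] at h1 h0
  have e1 : Snapper.χ k L M 1 = (Curv2.euler k X (CohB1.tensorMod M L) : ℚ) :=
    congrArg Int.cast (CurveCohLib.euler_congr (k := k) (cl_eq_iff.1 (by
      show PicF.cl (CohB1.tensorMod _ (CohB1.tensorPow L 1)) = _
      rw [cl_tensor, cl_tensor, cl_tensorPow, pow_one])).some)
  have e0 : Snapper.χ k L M 0 = (Curv2.euler k X M : ℚ) :=
    congrArg Int.cast (CurveCohLib.euler_congr (k := k) (cl_eq_iff.1 (by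
      show PicF.cl (CohB1.tensorMod _ (CohB1.tensorPow L 0)) = _
      rw [cl_tensor, cl_tensorPow, pow_zero, mul_one])).some)
  rw [e1] at h1
  rw [e0] at h0
  linarith

include k in
/-- Each integral curve is given by an ideal sheaf. -/
theorem exists_ideal_of_curve {Z : Scheme.{u}} (i : Z ⟶ X) [IsClosedImmersion i] [IsIntegral Z]
    (hdim : topologicalKrullDim Z = 1) :
    ∃ C : X.IdealSheafData, IsIntegral C.subscheme ∧ topologicalKrullDim (C.support : Set X) = 1 ∧
      Set.range C.subschemeι = Set.range i ∧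
      Nonempty ((Coh.push i).obj (Coh.structureModule Z) ≅ ClSub.quotMod C) := by
  let C := Scheme.IdealSheafData.vanishingIdeal (⟨Set.range i, i.isClosedEmbedding.isClosed_range⟩ : Closeds X)
  have hr : Set.range C.subschemeι = Set.range i := H23.RedSub.range_vanishingIdeal _
  have hint : IsIntegral C.subscheme := by
    have e : (⟨Set.range i, i.isClosedEmbedding.isClosed_range⟩ : Closeds X) = Closeds.closure {i (genericPoint Z)} :=
      Closeds.ext (QCoh.range_eq_closure i)
    show IsIntegral (Scheme.IdealSheafData.vanishingIdeal _).subscheme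
    rw [e]
    exact QCoh.isIntegral_closure_point _
  haveI := hint
  refine ⟨C, hint, ?_, hr, QCoh.push_structure_iso C.subschemeι i hr.symm⟩
  rw [← C.range_subschemeι, hr, ← AmpleDev.dim_eq_one_of_closedImmersion i rfl]
  exact hdim

theorem exists_push_poly {Z : Scheme.{u}} (i : Z ⟶ X) [IsClosedImmersion i] {L : X.Modules}
    (hL : PicF.IsInvertible L) (hdim : topologicalKrullDim Z = (1 : ℕ)) :
    ∃ q : Polynomial ℚ, q.natDegree ≤ 1 ∧
      ∀ n, Snapper.χ k L ((Coh.push i).obj (Coh.structureModule Z)) n = q.eval (n : ℚ) := by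
  haveI := CurveCohLib.isNoetherian_of_proper (k := k) (X := X)
  haveI : IsNoetherian Z :=
    { __ := LocallyOfFiniteType.isLocallyNoetherian i
      __ := QuasiCompact.compactSpace_of_compactSpace i }
  exact exists_poly k hL (QCoh.isCoh_push i QCoh.isCoh_structureModule')
    (C := ⟨Set.range i, i.isClosedEmbedding.isClosed_range⟩)
    (QCoh.support_push_subset i QCoh.isQCoh_structureModule) (d := 1)
    ((AmpleDev.dim_eq_one_of_closedImmersion i rfl).symm.trans hdim).le

/-- Nefness in the ideal sheaf form. -/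
theorem nef_iff_euler {L : X.Modules} (hL : PicF.IsInvertible L) :
    Nef k L ↔ ∀ C : X.IdealSheafData, IsIntegral C.subscheme → topologicalKrullDim (C.support : Set X) = 1 →
      0 ≤ Curv2.euler k X (CohB1.tensorMod (ClSub.quotMod C) L) - Curv2.euler k X (ClSub.quotMod C) := by
  constructor
  · intro h C hC hd
    haveI := hC
    have hdim : topologicalKrullDim C.subscheme = 1 :=
      (AmpleDev.dim_eq_one_of_closedImmersion C.subschemeι C.range_subschemeι).trans hd
    obtain ⟨q, hq, hqn⟩ := exists_push_poly k C.subschemeι hL (hdim.trans Nat.cast_one.symm)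
    have h' := h C.subscheme C.subschemeι inferInstance inferInstance hdim q hq hqn
    rw [coeff_one_eq_sub k hq hqn] at h'
    exact_mod_cast h'
  · intro h Z i hi hZ hdim q hq hqn
    haveI := hi
    haveI := hZ
    obtain ⟨C, hC, hd, -, ⟨φ⟩⟩ := exists_ideal_of_curve k i hdim
    rw [coeff_one_eq_sub k (M := ClSub.quotMod C) hq fun n => (χ_congr k φ n).symm.trans (hqn n)]
    exact_mod_cast h C hC hd

theorem spos_of_euler {L : X.Modules}
    (h : ∀ C : X.IdealSheafData, IsIntegral C.subscheme → topologicalKrullDim (C.support : Set X) = 1 →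
      0 < Curv2.euler k X (CohB1.tensorMod (ClSub.quotMod C) L) - Curv2.euler k X (ClSub.quotMod C)) :
    SPos k L := by
  intro Z i hi hZ hdim q hq hqn
  haveI := hi
  haveI := hZ
  obtain ⟨C, hC, hd, -, ⟨φ⟩⟩ := exists_ideal_of_curve k i (hdim.trans Nat.cast_one)
  rw [coeff_one_eq_sub k (M := ClSub.quotMod C) hq fun n => (χ_congr k φ n).symm.trans (hqn n)]
  exact_mod_cast h C hC hd

include k in
theorem eff_of_ideals {L : X.Modules} (hL : PicF.IsInvertible L)
    (h : ∀ Z : X.IdealSheafData, IsIntegral Z.subscheme → ∃ (m : ℕ) (s : Coh.structureModule Z.subscheme ⟶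
      CohB1.tensorPow ((Scheme.Modules.pullback Z.subschemeι).obj L) (m + 1)), s ≠ 0) : Eff L := by
  intro Z i hi hZ
  haveI := hi
  haveI := hZ
  let C := Scheme.IdealSheafData.vanishingIdeal (⟨Set.range i, i.isClosedEmbedding.isClosed_range⟩ : Closeds X)
  have hr : Set.range C.subschemeι = Set.range i := H23.RedSub.range_vanishingIdeal _
  have hint : IsIntegral C.subscheme := by
    have e : (⟨Set.range i, i.isClosedEmbedding.isClosed_range⟩ : Closeds X) = Closeds.closure {i (genericPoint Z)} :=
      Closeds.ext (QCoh.range_eq_closure i)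
    show IsIntegral (Scheme.IdealSheafData.vanishingIdeal _).subscheme
    rw [e]
    exact QCoh.isIntegral_closure_point _
  haveI := hint
  obtain ⟨m, s, hs⟩ := h C hint
  obtain ⟨e, he⟩ := QCoh.closedImmersion_iso_of_range C.subschemeι i hr.symm
  have hM := InvX.isInvertible_tensorPow (PicClLib.isInvertible_pullback C.subschemeι hL) (m + 1)
  obtain ⟨φ⟩ := PicClLib.nonempty_pullback_structureModule e.hom
  obtain ⟨x, hx⟩ := genLocus_nonempty hM s hs
  have hg := InvX.genLocus_pullback e.hom hM s φ.symm
  obtain ⟨t, ht⟩ := AmpleX.exists_section_of_cl_eq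
    (B := CohB1.tensorPow ((Scheme.Modules.pullback i).obj L) (m + 1)) (by
      show PicF.pullCl e.hom (PicF.cl (CohB1.tensorPow _ (m + 1))) = _
      rw [cl_tensorPow, pullCl_pow, cl_tensorPow]
      refine congrArg (· ^ (m + 1)) ?_
      exact cl_eq_iff.2 ⟨(Scheme.Modules.pullbackComp e.hom C.subschemeι).app L ≪≫
        (Scheme.Modules.pullbackCongr he).app L⟩) (φ.symm.hom ≫ (Scheme.Modules.pullback e.hom).map s)
  rw [hg] at ht
  refine ⟨m + 1, Nat.succ_pos _, t, ne_zero_of_mem_genLocus' (x := e.inv x) ?_⟩
  rw [ht]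
  show e.hom (e.inv x) ∈ CohB1.genLocus _ s
  rw [show e.hom (e.inv x) = x by rw [← Scheme.Hom.comp_apply, e.inv_hom_id]; rfl]
  exact hx

variable {Y : Scheme.{u}} [Y.Over (Spec (CommRingCat.of k))] [IsProper (Y ↘ Spec (CommRingCat.of k))]

include k in
/-- Nefness descends along surjections. -/
theorem Nef.of_surjective (f : Y ⟶ X) (hf : f ≫ (X ↘ Spec (CommRingCat.of k)) = Y ↘ Spec (CommRingCat.of k))
    [Surjective f] {L : X.Modules} (hL : PicF.IsInvertible L)
    (hn : Nef k ((Scheme.Modules.pullback f).obj L)) : Nef k L := by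
  intro C j hj hC hdim q hq hqn
  haveI := hj
  haveI := hC
  haveI : IsProper f := by
    haveI : IsProper (f ≫ (X ↘ Spec (CommRingCat.of k))) := by rw [hf]; infer_instance
    exact IsProper.of_comp f (X ↘ Spec (CommRingCat.of k))
  letI : C.Over (Spec (CommRingCat.of k)) := ⟨j ≫ (X ↘ Spec (CommRingCat.of k))⟩
  haveI : IsProper (C ↘ Spec (CommRingCat.of k)) :=
    inferInstanceAs (IsProper (j ≫ (X ↘ Spec (CommRingCat.of k))))
  haveI := CurveCohLib.isNoetherian_of_proper (k := k) (X := C)
  obtain ⟨y, hy⟩ := f.surjective (j (genericPoint C))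
  let J := Scheme.IdealSheafData.vanishingIdeal (Closeds.closure ({y} : Set Y))
  haveI : IsIntegral J.subscheme := QCoh.isIntegral_closure_point y
  have hJr : Set.range J.subschemeι = closure {y} := H23.RedSub.range_vanishingIdeal _
  letI : J.subscheme.Over (Spec (CommRingCat.of k)) := ⟨J.subschemeι ≫ (Y ↘ Spec (CommRingCat.of k))⟩
  haveI : IsProper (J.subscheme ↘ Spec (CommRingCat.of k)) :=
    inferInstanceAs (IsProper (J.subschemeι ≫ (Y ↘ Spec (CommRingCat.of k))))
  haveI := CurveCohLib.isNoetherian_of_proper (k := k) (X := J.subscheme)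
  haveI : JacobsonSpace J.subscheme := LocallyOfFiniteType.jacobsonSpace (J.subscheme ↘ Spec (CommRingCat.of k))
  let h : J.subscheme ⟶ X := J.subschemeι ≫ f
  have hjη : closure {j (genericPoint C)} = Set.range j := (QCoh.range_eq_closure j).symm
  have hrange : Set.range h = Set.range j := by
    rw [show Set.range h = f '' Set.range J.subschemeι from by rw [← Set.range_comp]; rfl, hJr]
    refine subset_antisymm ((image_closure_subset_closure_image f.continuous).trans ?_) ?_
    · rw [Set.image_singleton, hy, hjη]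
    · rw [← hjη]
      exact (f.isClosedMap _ isClosed_closure).closure_subset_iff.2
        (Set.singleton_subset_iff.2 ⟨y, subset_closure rfl, hy⟩)
  have hCns : ¬ (Set.range j).Subsingleton := fun hs => by
    haveI : Subsingleton C := ⟨fun a b => j.isClosedEmbedding.injective (hs ⟨a, rfl⟩ ⟨b, rfl⟩)⟩
    have h0 : topologicalKrullDim C ≤ 0 := topologicalKrullDim_zero_of_discreteTopology C
    rw [hdim] at h0
    exact absurd h0 (by norm_num)
  haveI : IsProper h := inferInstanceAs (IsProper (J.subschemeι ≫ f))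
  obtain ⟨D, i, hi, hD, hDdim, hDne⟩ := AVHomLib.exists_curve h h.isClosedMap (hrange ▸ hCns)
  haveI := hi
  haveI := hD
  letI : D.Over (Spec (CommRingCat.of k)) := ⟨(i ≫ J.subschemeι) ≫ (Y ↘ Spec (CommRingCat.of k))⟩
  haveI : IsProper (D ↘ Spec (CommRingCat.of k)) :=
    inferInstanceAs (IsProper ((i ≫ J.subschemeι) ≫ (Y ↘ Spec (CommRingCat.of k))))
  haveI := CurveCohLib.isNoetherian_of_proper (k := k) (X := D)
  obtain ⟨g, hg⟩ := H23.RedSub.exists_lift_closed (i ≫ h) j (by
    rintro _ ⟨d, rfl⟩
    exact hrange ▸ ⟨i d, rfl⟩)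
  have hgk : g ≫ (C ↘ Spec (CommRingCat.of k)) = D ↘ Spec (CommRingCat.of k) := by
    show g ≫ j ≫ _ = ((i ≫ J.subschemeι) ≫ _)
    rw [← Category.assoc, hg]
    show (i ≫ J.subschemeι ≫ f) ≫ _ = _
    rw [Category.assoc, Category.assoc, hf, Category.assoc]
  haveI : IsProper g := by
    haveI : IsProper (g ≫ (C ↘ Spec (CommRingCat.of k))) := by rw [hgk]; infer_instance
    exact IsProper.of_comp g (C ↘ Spec (CommRingCat.of k))
  have hgη : g (genericPoint D) = genericPoint C := by
    by_contra hne
    have hcl : IsClosed ({g (genericPoint D)} : Set C) := CDiv6.isClosed_singleton hdim.le hne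
    refine hDne ?_
    rw [show Set.range (i ≫ h) = j '' Set.range g from by rw [← hg, ← Set.range_comp]; rfl]
    refine Set.Subsingleton.image (Set.Subsingleton.anti (t := {g (genericPoint D)}) Set.subsingleton_singleton ?_) _
    rw [← Set.image_univ, ← (genericPoint_spec D).def]
    refine (image_closure_subset_closure_image g.continuous).trans ?_
    rw [Set.image_singleton, hcl.closure_eq]
  haveI : IsFinite g := CurveFinMap.isFinite_of_generic k hDdim hdim g hgk hgη
  have hδ : (0 : ℚ) < (g.residueDegree (genericPoint D) : ℚ) := by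
    refine Nat.cast_pos.2 ?_
    letI := (g.residueFieldMap (genericPoint D)).hom.toAlgebra
    haveI : Module.Finite (C.residueField (g (genericPoint D))) (D.residueField (genericPoint D)) :=
      MorLib.GF.finite_residueFieldMap g (genericPoint D)
    exact Module.finrank_pos
  have hLC := PicClLib.isInvertible_pullback j hL
  have hd1 : topologicalKrullDim D = (1 : ℕ) := hDdim.trans Nat.cast_one.symm
  obtain ⟨qD, hqD, hqDn⟩ := exists_poly k (PicClLib.isInvertible_pullback g hLC) (QCoh.isCoh_structureModule' (X := D))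
    (C := (⊤ : Closeds D)) (fun x _ => trivial) (d := 1)
    ((Topology.IsInducing.subtypeVal.topologicalKrullDim_le).trans hd1.le)
  have heq := coeff_push_const k g hgk hgη hd1 (hdim.trans Nat.cast_one.symm) hLC hqD hq hqDn fun n =>
    (χ_push k j rfl hL QCoh.isQCoh_structureModule n).symm.trans (hqn n)
  have hpos := hn D (i ≫ J.subschemeι) inferInstance inferInstance hDdim qD hqD fun n => by
    rw [χ_push k (i ≫ J.subschemeι) rfl (PicClLib.isInvertible_pullback f hL) QCoh.isQCoh_structureModule n, ← hqDn n]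
    refine χ_congr_left k (cl_eq_iff.2 ⟨?_⟩) _ n
    exact (Scheme.Modules.pullbackComp (i ≫ J.subschemeι) f).app L ≪≫
      (Scheme.Modules.pullbackCongr ((Category.assoc _ _ _).trans hg.symm)).app L ≪≫
      ((Scheme.Modules.pullbackComp g j).app L).symm
  rw [heq] at hpos
  exact nonneg_of_mul_nonneg_right hpos hδ

end Groth.Agent.Nakai
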