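import Groth.Agent.Nakai.Birat3

/-!
# Intersection numbers of pullbacks
-/

set_option autoImplicit false
set_option linter.style.haveILetI false
set_option linter.unusedSectionVars false
set_option backward.isDefEq.respectTransparency false
set_option backward.isDefEq.respectTransparency.types false
set_option maxHeartbeats 1000000

universe u

open CategoryTheory CategoryTheory.Limits AlgebraicGeometry TopologicalSpace Opposite
open Groth.Agent.H23.PicMul

noncomputable section

namespace Groth.Agent.Nakai

open Groth.Agent

variable (k : Type u) [Field k] {X : Scheme.{u}} [X.Over (Spec (CommRingCat.of k))]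
  [IsProper (X ↘ Spec (CommRingCat.of k))]

theorem χs_quotMod (C : X.IdealSheafData) {r : ℕ} (L : Fin r → X.Modules) (hL : ∀ i, PicF.IsInvertible (L i))
    (n : Fin r → ℕ) :
    letI : C.subscheme.Over (Spec (CommRingCat.of k)) := ⟨C.subschemeι ≫ (X ↘ Spec (CommRingCat.of k))⟩
    (Curv2.euler k X (Curv2.tensorPows (ClSub.quotMod C) r L n) : ℚ) =
      (Curv2.euler k C.subscheme (Curv2.tensorPows (Coh.structureModule C.subscheme) r
        (fun i => (Scheme.Modules.pullback C.subschemeι).obj (L i)) n) : ℚ) := by
  letI : C.subscheme.Over (Spec (CommRingCat.of k)) := ⟨C.subschemeι ≫ (X ↘ Spec (CommRingCat.of k))⟩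
  exact congrArg Int.cast (Snapper.euler_tensorPows_push k C.subschemeι rfl QCoh.isQCoh_structureModule L hL n)

/-- The dimension does not go up under surjective closed maps. -/
theorem dim_le_of_surjective {Y W : Scheme.{u}} (g : Y ⟶ W) (hg : IsClosedMap g) (hs : Function.Surjective g) :
    topologicalKrullDim W ≤ topologicalKrullDim Y := by
  refine iSup_le fun p => ?_
  obtain ⟨ζ, hζ⟩ := QuasiSober.sober p.last.isIrreducible p.last.isClosed
  obtain ⟨x, hx⟩ := hs ζ
  let T : IrreducibleCloseds Y := ⟨closure {x}, isIrreducible_singleton.closure, isClosed_closure⟩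
  have hT : g '' (T : Set Y) = p.last := by
    refine subset_antisymm ?_ ?_
    · refine (image_closure_subset_closure_image g.continuous).trans ?_
      rw [Set.image_singleton, hx, hζ.def]
    · rw [← hζ.def]
      exact (hg _ isClosed_closure).closure_subset_iff.2
        (Set.singleton_subset_iff.2 ⟨x, subset_closure rfl, hx⟩)
  obtain ⟨q, hq, -⟩ := exists_lift_series g.continuous hg p.length p rfl T hT
  rw [← hq]
  exact le_iSup (fun p : LTSeries (IrreducibleCloseds Y) => (p.length : WithBot ℕ∞)) q

end Groth.Agent.Nakai
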