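import Groth.Agent.Nakai.Kleiman
import Groth.Agent.Nakai.Pullback

/-!
# Nef modules on proper varieties have nonnegative top self-intersection
-/

set_option autoImplicit false
set_option linter.style.haveILetI false
set_option linter.unusedSectionVars false
set_option backward.isDefEq.respectTransparency false
set_option backward.isDefEq.respectTransparency.types false
set_option maxHeartbeats 1000000

universe u

open CategoryTheory CategoryTheory.Limits AlgebraicGeometry TopologicalSpace Opposite
open Groth.Agent.H23.PicMul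

noncomputable section

namespace Groth.Agent.Nakai

open Groth.Agent

variable (k : Type u) [Field k] {X Y : Scheme.{u}} [X.Over (Spec (CommRingCat.of k))]
  [Y.Over (Spec (CommRingCat.of k))] [IsProper (X ↘ Spec (CommRingCat.of k))]
  [IsProper (Y ↘ Spec (CommRingCat.of k))]

theorem exists_mpoly_const [IsIntegral X] {L : X.Modules} (hL : PicF.IsInvertible L) {d : ℕ}
    (hX : topologicalKrullDim X ≤ (d : WithBot ℕ∞)) :
    ∃ P : MvPolynomial (Fin d) ℚ, ∀ n : Fin d → ℕ,
      Snapper.χs k (fun _ : Fin d => L) (Coh.structureModule X) n = MvPolynomial.eval (fun i => (n i : ℚ)) P :=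
  haveI := CurveCohLib.isNoetherian_of_proper (k := k) (X := X)
  let ⟨P, _, hP⟩ := Snapper.exists_mpoly k (L := fun _ : Fin d => L) (fun _ => hL) (QCoh.isCoh_structureModule' (X := X))
    ((Topology.IsInducing.subtypeVal.topologicalKrullDim_le).trans hX)
  ⟨P, hP⟩

include k in
/-- Top self-intersection of a pullback along a map of varieties of the same dimension. -/
theorem coeff_push_const [IsIntegral X] [IsIntegral Y] (g : Y ⟶ X)
    (hg : g ≫ (X ↘ Spec (CommRingCat.of k)) = Y ↘ Spec (CommRingCat.of k))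
    (hη : g (genericPoint Y) = genericPoint X) {d : ℕ} (hY : topologicalKrullDim Y = d)
    (hX : topologicalKrullDim X = d) {L : X.Modules} (hL : PicF.IsInvertible L) {qY qX : Polynomial ℚ}
    (hqY : qY.natDegree ≤ d) (hqX : qX.natDegree ≤ d)
    (hY' : ∀ n, Snapper.χ k ((Scheme.Modules.pullback g).obj L) (Coh.structureModule Y) n = qY.eval (n : ℚ))
    (hX' : ∀ n, Snapper.χ k L (Coh.structureModule X) n = qX.eval (n : ℚ)) :
    qY.coeff d = (g.residueDegree (genericPoint Y) : ℚ) * qX.coeff d := by
  obtain ⟨PY, hPY⟩ := exists_mpoly_const k (PicClLib.isInvertible_pullback g hL) hY.le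
  obtain ⟨PX, hPX⟩ := exists_mpoly_const k hL hX.le
  have h := coeff_push k g hg hη hY hX (fun _ : Fin d => hL) hPY hPX
    (α := Finsupp.equivFunOnFinite.symm fun _ : Fin d => 1)
    (by rw [Finsupp.sum_fintype _ _ (fun _ => rfl)]; simp)
  rw [coeff_eq k hqY hY' PY hPY, coeff_eq k hqX hX' PX hPX, ← mul_assoc] at h
  exact mul_right_cancel₀ (by exact_mod_cast d.factorial_ne_zero) h

include k in
theorem coeff_push_const_zero [IsIntegral Y] (g : Y ⟶ X)
    (hg : g ≫ (X ↘ Spec (CommRingCat.of k)) = Y ↘ Spec (CommRingCat.of k))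
    {d : ℕ} (hY : topologicalKrullDim Y = d) (hX : topologicalKrullDim X < (d : WithBot ℕ∞)) {L : X.Modules}
    (hL : PicF.IsInvertible L) {qY : Polynomial ℚ} (hqY : qY.natDegree ≤ d)
    (hY' : ∀ n, Snapper.χ k ((Scheme.Modules.pullback g).obj L) (Coh.structureModule Y) n = qY.eval (n : ℚ)) :
    qY.coeff d = 0 := by
  obtain ⟨PY, hPY⟩ := exists_mpoly_const k (PicClLib.isInvertible_pullback g hL) hY.le
  have h := coeff_push_zero k g hg hY hX (fun _ : Fin d => hL) hPY
    (α := Finsupp.equivFunOnFinite.symm fun _ : Fin d => 1)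
    (by rw [Finsupp.sum_fintype _ _ (fun _ => rfl)]; simp)
  rw [coeff_eq k hqY hY' PY hPY] at h
  exact (mul_eq_zero.1 h).resolve_right (by exact_mod_cast d.factorial_ne_zero)

include k in
/-- Nefness is preserved by pullback. -/
theorem Nef.pullback_proper (f : Y ⟶ X) (hf : f ≫ (X ↘ Spec (CommRingCat.of k)) = Y ↘ Spec (CommRingCat.of k))
    {L : X.Modules} (hL : PicF.IsInvertible L) (hn : Nef k L) : Nef k ((Scheme.Modules.pullback f).obj L) := by
  intro C j hj hC hdim q hq hqn
  haveI := hj
  haveI := hC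
  letI : C.Over (Spec (CommRingCat.of k)) := ⟨j ≫ (Y ↘ Spec (CommRingCat.of k))⟩
  haveI : IsProper (C ↘ Spec (CommRingCat.of k)) :=
    inferInstanceAs (IsProper (j ≫ (Y ↘ Spec (CommRingCat.of k))))
  let h : C ⟶ X := j ≫ f
  haveI : IsProper h := by
    haveI : IsProper (h ≫ (X ↘ Spec (CommRingCat.of k))) := by
      show IsProper ((j ≫ f) ≫ _)
      rw [Category.assoc, hf]; infer_instance
    exact IsProper.of_comp h (X ↘ Spec (CommRingCat.of k))
  let I : X.IdealSheafData := h.ker
  letI : I.subscheme.Over (Spec (CommRingCat.of k)) := ⟨I.subschemeι ≫ (X ↘ Spec (CommRingCat.of k))⟩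
  haveI : IsProper (I.subscheme ↘ Spec (CommRingCat.of k)) :=
    inferInstanceAs (IsProper (I.subschemeι ≫ (X ↘ Spec (CommRingCat.of k))))
  haveI : IsIntegral I.subscheme := RatSecExt.isIntegral_image h
  haveI := CurveCohLib.isNoetherian_of_proper (k := k) (X := I.subscheme)
  let g : C ⟶ I.subscheme := h.toImage
  have hgh : g ≫ I.subschemeι = h := h.toImage_imageι
  have hg : g ≫ (I.subscheme ↘ Spec (CommRingCat.of k)) = C ↘ Spec (CommRingCat.of k) := by
    show g ≫ I.subschemeι ≫ _ = j ≫ _
    rw [← Category.assoc, hgh]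
    show (j ≫ f) ≫ _ = _
    rw [Category.assoc, hf]
  haveI : IsProper g := by
    haveI : IsProper (g ≫ I.subschemeι) := by rw [hgh]; infer_instance
    exact IsProper.of_comp g I.subschemeι
  have hsurj : Function.Surjective g := by
    rw [← Set.range_eq_univ]
    have h1 : closure (Set.range g) = Set.univ := h.toImage.denseRange.closure_range
    rwa [(g.isClosedMap.isClosed_range).closure_eq] at h1
  have hη : g (genericPoint C) = genericPoint I.subscheme := by
    have h1 := (genericPoint_spec C).image g.continuous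
    rw [Set.image_univ, Set.range_eq_univ.2 hsurj, closure_univ] at h1
    exact h1.eq (genericPoint_spec I.subscheme)
  have hLI := PicClLib.isInvertible_pullback I.subschemeι hL
  have hq' : ∀ n, Snapper.χ k ((Scheme.Modules.pullback g).obj ((Scheme.Modules.pullback I.subschemeι).obj L))
      (Coh.structureModule C) n = q.eval (n : ℚ) := fun n => by
    refine Eq.trans ?_ ((χ_push k j rfl (PicClLib.isInvertible_pullback f hL) QCoh.isQCoh_structureModule n).symm.trans (hqn n))
    exact χ_congr_left k (cl_eq_iff.2 ⟨(Scheme.Modules.pullbackComp g I.subschemeι).app L ≪≫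
      (Scheme.Modules.pullbackCongr hgh).app L ≪≫ ((Scheme.Modules.pullbackComp j f).app L).symm⟩) _ n
  have hle : topologicalKrullDim I.subscheme ≤ ((1 : ℕ) : WithBot ℕ∞) :=
    (dim_le_of_surjective g g.isClosedMap hsurj).trans hdim.le
  rcases hle.lt_or_eq with hlt | heq
  · rw [coeff_push_const_zero k g hg hdim hlt hLI hq hq']
  · obtain ⟨qI, hqI, hqIn⟩ := exists_poly k hLI (QCoh.isCoh_structureModule' (X := I.subscheme))
      (C := (⊤ : Closeds I.subscheme)) (fun x _ => trivial) (d := 1)
      ((Topology.IsInducing.subtypeVal.topologicalKrullDim_le).trans heq.le)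
    rw [coeff_push_const k g hg hη hdim heq hLI hq hqI hq' hqIn]
    refine mul_nonneg (Nat.cast_nonneg _) (hn I.subscheme I.subschemeι inferInstance inferInstance heq qI hqI fun n => ?_)
    exact (χ_push k I.subschemeι rfl hL QCoh.isQCoh_structureModule n).trans (hqIn n)

include k in
/-- A nef module on a proper variety has nonnegative top self-intersection number. -/
theorem coeff_nonneg_of_nef [IsIntegral X] {L : X.Modules} (hL : PicF.IsInvertible L) (hn : Nef k L) {d : ℕ}
    (hX : topologicalKrullDim X = d) {q : Polynomial ℚ} (hq : q.natDegree ≤ d)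
    (hqn : ∀ n, Snapper.χ k L (Coh.structureModule X) n = q.eval (n : ℚ)) : 0 ≤ q.coeff d := by
  obtain ⟨Z, hZ, π, hπ, hπη, hZd, hπdeg, A, hA⟩ := exists_chow k X hX
  haveI := hZ
  haveI := hπ
  letI : Z.Over (Spec (CommRingCat.of k)) := ⟨π ≫ (X ↘ Spec (CommRingCat.of k))⟩
  haveI : IsProper (Z ↘ Spec (CommRingCat.of k)) :=
    inferInstanceAs (IsProper (π ≫ (X ↘ Spec (CommRingCat.of k))))
  haveI := CurveCohLib.isNoetherian_of_proper (k := k) (X := Z)
  let L' := (Scheme.Modules.pullback π).obj L
  have hL' : PicF.IsInvertible L' := PicClLib.isInvertible_pullback π hL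
  have hdim : topologicalKrullDim ↥((⊤ : Closeds Z) : Set Z) ≤ d :=
    (Topology.IsInducing.subtypeVal.topologicalKrullDim_le).trans hZd.le
  obtain ⟨c, hc⟩ := exists_mixed k hL' hA.1 (QCoh.isCoh_structureModule' (X := Z)) (C := (⊤ : Closeds Z))
    hdim fun x _ => trivial
  obtain ⟨r, hr, hrn⟩ := exists_poly k (isInvertible_comb hL' hA.1 1 0) (QCoh.isCoh_structureModule' (X := Z))
    (C := (⊤ : Closeds Z)) (fun x _ => trivial) hdim
  have h := coeff_push_const k π rfl hπη hZd hX hL hr hq
    (fun n => (χ_congr_left k (by rw [cl_comb, pow_zero, pow_one, mul_one]) _ n).trans (hrn n)) hqn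
  rw [hπdeg, Nat.cast_one, one_mul, hc 1 0 r hr hrn] at h
  rw [← h]
  refine Finset.sum_nonneg fun i hi => mul_nonneg (mul_nonneg ?_ (by positivity)) (by positivity)
  exact (kl k d Z hZd L' A hL' (hn.pullback_proper k π rfl hL) hA c hc).2 i (Nat.lt_succ_iff.1 (Finset.mem_range.1 hi))

end Groth.Agent.Nakai
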