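import Groth.Agent.Nakai.Birat2
import Groth.Agent.S0025
import Groth.Agent.S1618
import Groth.Agent.CycLib.DivMap
import Groth.Agent.PicGlue.ProjSpaceBC
import Groth.Agent.PnCoh.Chow.Proper
import Groth.Agent.Snapper.Push
import Groth.Agent.RatSecExt.Basic

/-!
# The pullback formula for intersection numbers of proper varieties
-/

set_option autoImplicit false
set_option linter.style.haveILetI false
set_option linter.unusedSectionVars false
set_option backward.isDefEq.respectTransparency false
set_option backward.isDefEq.respectTransparency.types false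
set_option maxHeartbeats 1000000

universe u

open CategoryTheory CategoryTheory.Limits AlgebraicGeometry TopologicalSpace Opposite
open Groth.Agent.H23.PicMul

noncomputable section

namespace Groth.Agent.Nakai

open Groth.Agent

variable (k : Type u) [Field k]

/-- Chow's lemma for a variety: a birational cover with an ample module. -/
theorem exists_chow (W : Scheme.{u}) [W.Over (Spec (CommRingCat.of k))]
    [IsProper (W ↘ Spec (CommRingCat.of k))] [IsIntegral W] {d : ℕ} (hW : topologicalKrullDim W = d) :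
    ∃ (Z : Scheme.{u}) (_ : IsIntegral Z) (π : Z ⟶ W) (_ : IsProper π), π (genericPoint Z) = genericPoint W ∧
      topologicalKrullDim Z = d ∧ π.residueDegree (genericPoint Z) = 1 ∧ ∃ A : Z.Modules, CohB1.IsAmple A := by
  haveI := CurveCohLib.isNoetherian_of_proper (k := k) (X := W)
  haveI : IsNoetherian (Spec (CommRingCat.of k)) := inferInstance
  obtain ⟨n, X', π, j, hj, hjc, hπ, -, U, hUd, hUi⟩ := S0025.result (W ↘ Spec (CommRingCat.of k))
  haveI := hj
  haveI := hπ
  haveI := hUi
  have hηU : genericPoint W ∈ U := by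
    obtain ⟨x, hx⟩ := hUd.nonempty
    exact ((genericPoint_spec W).specializes (Set.mem_univ x)).mem_open U.2 hx
  obtain ⟨y₀, hy₀⟩ := (π ∣_ U).homeomorph.surjective ⟨genericPoint W, hηU⟩
  let η' : X' := (π ⁻¹ᵁ U).ι y₀
  have hπη : π η' = genericPoint W := by
    have h : ((π ∣_ U) ≫ U.ι) y₀ = ((π ⁻¹ᵁ U).ι ≫ π) y₀ := by rw [morphismRestrict_ι]
    exact h.symm.trans (congrArg U.ι hy₀)
  let J := Scheme.IdealSheafData.vanishingIdeal (Closeds.closure ({η'} : Set X'))
  haveI : IsIntegral J.subscheme := QCoh.isIntegral_closure_point η'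
  have hJr : Set.range J.subschemeι = closure {η'} := H23.RedSub.range_vanishingIdeal _
  have hgen : J.subschemeι (genericPoint J.subscheme) = η' := by
    have h := QCoh.range_eq_closure J.subschemeι
    rw [hJr] at h
    exact ((show IsGenericPoint η' (closure {η'}) from rfl).eq (show IsGenericPoint (J.subschemeι (genericPoint J.subscheme)) (closure {η'}) from h.symm)).symm
  let π' : J.subscheme ⟶ W := J.subschemeι ≫ π
  have hπ'η : π' (genericPoint J.subscheme) = genericPoint W := by
    show π (J.subschemeι (genericPoint J.subscheme)) = _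
    rw [hgen, hπη]
  refine ⟨J.subscheme, inferInstance, π', inferInstance, hπ'η, ?_, ?_, ?_⟩
  · letI : J.subscheme.Over (Spec (CommRingCat.of k)) := ⟨π' ≫ (W ↘ Spec (CommRingCat.of k))⟩
    haveI : LocallyOfFiniteType (J.subscheme ↘ Spec (CommRingCat.of k)) :=
      inferInstanceAs (LocallyOfFiniteType (π' ≫ (W ↘ Spec (CommRingCat.of k))))
    let V : J.subscheme.Opens := π' ⁻¹ᵁ U
    have hV : genericPoint J.subscheme ∈ V := show π' (genericPoint J.subscheme) ∈ U by rw [hπ'η]; exact hηU
    rw [← S1618.result k J.subscheme V ⟨_, hV⟩, ← hW, ← S1618.result k W U ⟨_, hηU⟩]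
    have hy₀g : ∀ y : (π ⁻¹ᵁ U : X'.Opens), (π ⁻¹ᵁ U).ι y ∈ closure ({η'} : Set X') := fun y => by
      have h1 : (genericPoint W : W) ⤳ U.ι ((π ∣_ U) y) := (genericPoint_spec W).specializes (Set.mem_univ _)
      have h2 : (⟨genericPoint W, hηU⟩ : U.toScheme) ⤳ (π ∣_ U) y := U.ι.isOpenEmbedding.isInducing.specializes_iff.1 h1
      rw [← hy₀] at h2
      exact specializes_iff_mem_closure.1 (((π ∣_ U).homeomorph.isInducing.specializes_iff.1 h2).map (π ⁻¹ᵁ U).ι.continuous)
    have hsurj : Function.Surjective (J.subschemeι ∣_ (π ⁻¹ᵁ U)) := fun y => by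
      obtain ⟨z, hz⟩ := hJr.ge (hy₀g y)
      refine ⟨⟨z, show π (J.subschemeι z) ∈ U by rw [hz]; exact y.2⟩, Subtype.ext ?_⟩
      exact (morphismRestrict_base_coe _ _ _).trans hz
    have hh : IsHomeomorph (J.subschemeι ∣_ (π ⁻¹ᵁ U)) :=
      isHomeomorph_iff_isEmbedding_surjective.2 ⟨(J.subschemeι ∣_ (π ⁻¹ᵁ U)).isClosedEmbedding.isEmbedding, hsurj⟩
    exact ((π ∣_ U).homeomorph.isHomeomorph.comp hh).topologicalKrullDim_eq
  · rw [CycLib.residueDegree_comp, CycLib.residueDegree_preimmersion J.subschemeι, mul_one, hgen]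
    have h := CycLib.residueDegree_comp (π ∣_ U) U.ι y₀
    rw [H23.FiniteFibreSum.residueDegree_congr' (morphismRestrict_ι π U) y₀, CycLib.residueDegree_comp,
      CycLib.residueDegree_preimmersion (π ⁻¹ᵁ U).ι, CycLib.residueDegree_preimmersion U.ι,
      CycLib.residueDegree_preimmersion (π ∣_ U), mul_one, mul_one] at h
    exact h
  · haveI : IsProper (j ≫ CohB1.ProjSpaceOver.toBase n (Spec (CommRingCat.of k))) := by rw [hjc]; infer_instance
    obtain ⟨e, he⟩ := PicGlue.exists_projSpace_iso n k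
    haveI : IsProper (CohB1.ProjSpace.toSpec n k) := PnCoh.Chow.isProper_toSpec n k
    haveI : IsProper (CohB1.ProjSpaceOver.toBase n (Spec (CommRingCat.of k))) := by
      rw [← e.inv_hom_id_assoc (CohB1.ProjSpaceOver.toBase n (Spec (CommRingCat.of k))), he]
      infer_instance
    haveI : IsProper j := IsProper.of_comp j (CohB1.ProjSpaceOver.toBase n (Spec (CommRingCat.of k)))
    haveI : IsClosedImmersion j := IsClosedImmersion.of_isPreimmersion j (by
      rw [← Set.image_univ]; exact j.isClosedMap _ isClosed_univ)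
    exact AmpleVan.exists_ample_of_closedImmersion_projSpace (A := k) (J.subschemeι ≫ j ≫ e.inv)

variable {X Y : Scheme.{u}} [X.Over (Spec (CommRingCat.of k))] [Y.Over (Spec (CommRingCat.of k))]
  [IsProper (X ↘ Spec (CommRingCat.of k))] [IsProper (Y ↘ Spec (CommRingCat.of k))]

theorem χs_congr_cl {r : ℕ} {L L' : Fin r → X.Modules} (e : ∀ j, PicF.cl (L j) = PicF.cl (L' j)) (M : X.Modules)
    (n : Fin r → ℕ) : Snapper.χs k L M n = Snapper.χs k L' M n :=
  congrArg Int.cast (CurveCohLib.euler_congr (k := k) (cl_eq_iff.1 (by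
    rw [cl_tensorPows, cl_tensorPows]
    simp only [e])).some)

include k in
/-- Intersection numbers along surjections of varieties of the same dimension. -/
theorem coeff_push [IsIntegral X] [IsIntegral Y] (g : Y ⟶ X)
    (hg : g ≫ (X ↘ Spec (CommRingCat.of k)) = Y ↘ Spec (CommRingCat.of k))
    (hη : g (genericPoint Y) = genericPoint X) {d : ℕ} (hY : topologicalKrullDim Y = d)
    (hX : topologicalKrullDim X = d) {r : ℕ} {L : Fin r → X.Modules}
    (hL : ∀ j, PicF.IsInvertible (L j)) {PY PX : MvPolynomial (Fin r) ℚ}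
    (hPY : ∀ n, Snapper.χs k (fun j => (Scheme.Modules.pullback g).obj (L j)) (Coh.structureModule Y) n =
      MvPolynomial.eval (fun i => (n i : ℚ)) PY)
    (hPX : ∀ n, Snapper.χs k L (Coh.structureModule X) n = MvPolynomial.eval (fun i => (n i : ℚ)) PX)
    {α : Fin r →₀ ℕ} (hα : (α.sum fun _ e => e) = d) :
    MvPolynomial.coeff α PY = (g.residueDegree (genericPoint Y) : ℚ) * MvPolynomial.coeff α PX := by
  obtain ⟨Z, hZ, π, hπ, hπη, hZd, hπdeg, A, hA⟩ := exists_chow k Y hY
  haveI := hZ
  haveI := hπ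
  letI : Z.Over (Spec (CommRingCat.of k)) := ⟨π ≫ (Y ↘ Spec (CommRingCat.of k))⟩
  haveI : IsProper (Z ↘ Spec (CommRingCat.of k)) :=
    inferInstanceAs (IsProper (π ≫ (Y ↘ Spec (CommRingCat.of k))))
  haveI := CurveCohLib.isNoetherian_of_proper (k := k) (X := Z)
  let L' : Fin r → Y.Modules := fun j => (Scheme.Modules.pullback g).obj (L j)
  have hL' : ∀ j, PicF.IsInvertible (L' j) := fun j => PicClLib.isInvertible_pullback g (hL j)
  obtain ⟨PZ, -, hPZ⟩ := Snapper.exists_mpoly k (L := fun j => (Scheme.Modules.pullback π).obj (L' j))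
    (fun j => PicClLib.isInvertible_pullback π (hL' j)) (QCoh.isCoh_structureModule' (X := Z)) (d := d)
    ((Topology.IsInducing.subtypeVal.topologicalKrullDim_le).trans hZd.le)
  have h1 := coeff_push_proj k π rfl hπη hZd hY hA hL' hPZ hPY hα
  have h2 := coeff_push_proj k (π ≫ g) (by rw [Category.assoc, hg]; rfl) (by
      show g (π (genericPoint Z)) = _
      rw [hπη, hη]) hZd hX hA hL (PY := PZ) (fun n => by
    rw [← hPZ n]
    exact χs_congr_cl k (fun j => (cl_eq_iff.2 ⟨(Scheme.Modules.pullbackComp π g).app (L j)⟩).symm) _ n) hPX hα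
  rw [hπdeg, Nat.cast_one, one_mul] at h1
  rw [← h1, h2, CycLib.residueDegree_comp, hπdeg, mul_one, hπη]

include k in
/-- Collapsing maps kill intersection numbers. -/
theorem coeff_push_zero [IsIntegral Y] (g : Y ⟶ X)
    (hg : g ≫ (X ↘ Spec (CommRingCat.of k)) = Y ↘ Spec (CommRingCat.of k))
    {d : ℕ} (hY : topologicalKrullDim Y = d) (hX : topologicalKrullDim X < (d : WithBot ℕ∞))
    {r : ℕ} {L : Fin r → X.Modules} (hL : ∀ j, PicF.IsInvertible (L j)) {PY : MvPolynomial (Fin r) ℚ}
    (hPY : ∀ n, Snapper.χs k (fun j => (Scheme.Modules.pullback g).obj (L j)) (Coh.structureModule Y) n =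
      MvPolynomial.eval (fun i => (n i : ℚ)) PY)
    {α : Fin r →₀ ℕ} (hα : (α.sum fun _ e => e) = d) : MvPolynomial.coeff α PY = 0 := by
  obtain ⟨Z, hZ, π, hπ, hπη, hZd, hπdeg, A, hA⟩ := exists_chow k Y hY
  haveI := hZ
  haveI := hπ
  letI : Z.Over (Spec (CommRingCat.of k)) := ⟨π ≫ (Y ↘ Spec (CommRingCat.of k))⟩
  haveI : IsProper (Z ↘ Spec (CommRingCat.of k)) :=
    inferInstanceAs (IsProper (π ≫ (Y ↘ Spec (CommRingCat.of k))))
  haveI := CurveCohLib.isNoetherian_of_proper (k := k) (X := Z)
  let L' : Fin r → Y.Modules := fun j => (Scheme.Modules.pullback g).obj (L j)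
  have hL' : ∀ j, PicF.IsInvertible (L' j) := fun j => PicClLib.isInvertible_pullback g (hL j)
  obtain ⟨PZ, -, hPZ⟩ := Snapper.exists_mpoly k (L := fun j => (Scheme.Modules.pullback π).obj (L' j))
    (fun j => PicClLib.isInvertible_pullback π (hL' j)) (QCoh.isCoh_structureModule' (X := Z)) (d := d)
    ((Topology.IsInducing.subtypeVal.topologicalKrullDim_le).trans hZd.le)
  have h1 := coeff_push_proj k π rfl hπη hZd hY hA hL' hPZ hPY hα
  have h2 := coeff_push_proj_zero k (π ≫ g) (by rw [Category.assoc, hg]; rfl) hZd hX hA hL (PY := PZ) (fun n => by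
    rw [← hPZ n]
    exact χs_congr_cl k (fun j => (cl_eq_iff.2 ⟨(Scheme.Modules.pullbackComp π g).app (L j)⟩).symm) _ n) hα
  rw [hπdeg, Nat.cast_one, one_mul] at h1
  rw [← h1, h2]

end Groth.Agent.Nakai
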