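import Groth.Agent.Nakai.ProjEuler
import Groth.Agent.CurveFinMap.Rank
import Groth.Agent.H23.FiniteFibreSum
import Groth.Agent.Snapper.Components
import Groth.Agent.Nakai.Gen
import Groth.Agent.S2080

/-!
# Direct images of invertible modules at the generic point
-/

set_option autoImplicit false
set_option linter.style.haveILetI false
set_option linter.unusedSectionVars false
set_option backward.isDefEq.respectTransparency false
set_option backward.isDefEq.respectTransparency.types false
set_option maxHeartbeats 1000000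

universe u

open CategoryTheory CategoryTheory.Limits AlgebraicGeometry TopologicalSpace Opposite
open Groth.Agent.H23.PicMul

noncomputable section

namespace Groth.Agent.Nakai

open Groth.Agent

variable {X Y : Scheme.{u}}

/-- A map bijective on small opens is bijective on stalks. -/
theorem isIso_stalk_of_bijective {A B : Y.Modules} (a : A ⟶ B) {U : Y.Opens}
    (hb : ∀ W : Y.Opens, W ≤ U → Function.Bijective (a.app W)) {y : Y} (hy : y ∈ U) :
    IsIso ((DerSch.stalkFunctor Y y).map a) := by
  rw [ConcreteCategory.isIso_iff_bijective]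
  have hg : ∀ (W : Y.Opens) (hyW : y ∈ W) (r : Γ(A, W)),
      (DerSch.stalkFunctor Y y).map a (A.presheaf.germ W y hyW r) =
        B.presheaf.germ W y hyW (a.app W r) := fun W hyW r =>
    TopCat.Presheaf.stalkFunctor_map_germ_apply W y hyW ((Scheme.Modules.toPresheaf Y).map a) r
  refine ⟨fun p q hpq => ?_, fun z => ?_⟩
  · obtain ⟨W, hyW, r, rfl⟩ := A.presheaf.germ_exist (p : A.presheaf.stalk y)
    obtain ⟨W', hyW', r', rfl⟩ := A.presheaf.germ_exist (q : A.presheaf.stalk y)
    have h := ((hg W hyW r).symm.trans hpq).trans (hg W' hyW' r')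
    obtain ⟨T, hyT, i, j, hT⟩ := B.presheaf.germ_eq y hyW hyW' _ _ h
    let T' := T ⊓ U
    have hT' : a.app T' (A.presheaf.map (homOfLE (inf_le_left.trans i.le : T' ≤ W)).op r) =
        a.app T' (A.presheaf.map (homOfLE (inf_le_left.trans j.le : T' ≤ W')).op r') := by
      have hn : ∀ {C : Y.Opens} (s : Γ(A, C)) (hA : T' ≤ C),
          a.app T' (A.presheaf.map (homOfLE hA).op s) =
            B.presheaf.map (homOfLE hA).op (a.app C s) := fun s hA =>
        NatTrans.naturality_apply ((Scheme.Modules.toPresheaf Y).map a) (homOfLE hA).op s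
      rw [hn, hn]
      have h2 := congrArg (B.presheaf.map (homOfLE (inf_le_left : T' ≤ T)).op) hT
      rw [QCoh.map_map, QCoh.map_map] at h2
      exact h2
    have h4 := congrArg (A.presheaf.germ T' y ⟨hyT, hy⟩) ((hb T' inf_le_right).1 hT')
    rwa [A.presheaf.germ_res_apply, A.presheaf.germ_res_apply] at h4
  · obtain ⟨W, hyW, r, rfl⟩ := B.presheaf.germ_exist (z : B.presheaf.stalk y)
    obtain ⟨s, hs⟩ := (hb (W ⊓ U) inf_le_right).2 (B.presheaf.map (homOfLE (inf_le_left : W ⊓ U ≤ W)).op r)
    refine ⟨A.presheaf.germ (W ⊓ U) y ⟨hyW, hy⟩ s, ?_⟩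
    refine ((hg _ _ s).trans (congrArg (B.presheaf.germ (W ⊓ U) y ⟨hyW, hy⟩) hs)).trans ?_
    exact B.presheaf.germ_res_apply _ _ _ r

/-- Chains of irreducible closed subsets lift along closed maps. -/
theorem exists_lift_series {A B : Type u} [TopologicalSpace A] [TopologicalSpace B] [QuasiSober B] {f : A → B}
    (hf : Continuous f) (hfc : IsClosedMap f) : ∀ (n : ℕ) (p : LTSeries (IrreducibleCloseds B)), p.length = n →
    ∀ T : IrreducibleCloseds A, f '' (T : Set A) = p.last →
      ∃ q : LTSeries (IrreducibleCloseds A), q.length = n ∧ q.last = T := by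
  intro n
  induction n with
  | zero => exact fun p _ T _ => ⟨RelSeries.singleton _ T, rfl, rfl⟩
  | succ n ih =>
    intro p hp T hT
    obtain ⟨ζ, hζ⟩ := QuasiSober.sober p.eraseLast.last.isIrreducible p.eraseLast.last.isClosed
    have hlt : p.eraseLast.last < p.last := p.eraseLast_last_rel_last (by omega)
    obtain ⟨x, hxT, hx⟩ : ζ ∈ f '' (T : Set A) := hT.ge (hlt.le hζ.mem)
    let T' : IrreducibleCloseds A := ⟨closure {x}, isIrreducible_singleton.closure, isClosed_closure⟩
    have hT' : f '' (T' : Set A) = p.eraseLast.last := by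
      refine subset_antisymm ?_ ?_
      · refine (image_closure_subset_closure_image hf).trans ?_
        rw [Set.image_singleton, hx, hζ.def]
      · rw [← hζ.def]
        exact (hfc _ isClosed_closure).closure_subset_iff.2
          (Set.singleton_subset_iff.2 ⟨x, subset_closure rfl, hx⟩)
    obtain ⟨q, hq, hqT⟩ := ih p.eraseLast (by simp [hp]) T' hT'
    have hne : T' < T := by
      refine lt_of_le_of_ne (fun y hy => T.isClosed.closure_subset_iff.2 (Set.singleton_subset_iff.2 hxT) hy) ?_
      intro h
      rw [h, hT] at hT'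
      exact hlt.ne (IrreducibleCloseds.ext hT').symm
    exact ⟨q.snoc T (by rw [hqT]; exact hne), by simp [hq], RelSeries.last_snoc _ _ _⟩

/-- The only point over the generic point, for equal dimensions. -/
theorem eq_generic_of_map_eq [IsIntegral X] [IsIntegral Y] (g : Y ⟶ X) (hg : IsClosedMap g) {d : ℕ}
    (hY : topologicalKrullDim Y = d) (hX : topologicalKrullDim X = d) {y : Y} (hy : g y = genericPoint X) :
    y = genericPoint Y := by
  by_contra hne
  have hS : closure ({y} : Set Y) ≠ Set.univ := fun h => hne ((show IsGenericPoint y Set.univ from h).eq (genericPoint_spec Y))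
  have hfin : topologicalKrullDim Y ≠ ⊤ := by
    rw [hY]
    exact (lt_of_lt_of_le (WithBot.coe_lt_coe.2 (ENat.natCast_lt_top d)) le_top).ne
  have hlt := H23.TopDim.dim_lt_of_ssubset hfin isClosed_closure hS
  refine not_le.2 hlt ?_
  rw [hY, ← hX]
  haveI : Nonempty (IrreducibleCloseds X) := ⟨⟨Set.univ, IrreducibleSpace.isIrreducible_univ X, isClosed_univ⟩⟩
  refine iSup_le fun p => ?_
  obtain ⟨ζ, hζ⟩ := QuasiSober.sober p.last.isIrreducible p.last.isClosed
  have himg : g '' closure {y} = Set.univ := Set.eq_univ_of_univ_subset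
    ((genericPoint_spec X).def.ge.trans ((hg _ isClosed_closure).closure_subset_iff.2
      (Set.singleton_subset_iff.2 ⟨y, subset_closure rfl, hy⟩)))
  obtain ⟨x, hxS, hx⟩ : ζ ∈ g '' closure {y} := himg.ge (Set.mem_univ ζ)
  let T : IrreducibleCloseds Y := ⟨closure {x}, isIrreducible_singleton.closure, isClosed_closure⟩
  have hT : g '' (T : Set Y) = p.last := by
    refine subset_antisymm ?_ ?_
    · refine (image_closure_subset_closure_image g.continuous).trans ?_
      rw [Set.image_singleton, hx, hζ.def]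
    · rw [← hζ.def]
      exact (hg _ isClosed_closure).closure_subset_iff.2
        (Set.singleton_subset_iff.2 ⟨x, subset_closure rfl, hx⟩)
  obtain ⟨q, hq, hqT⟩ := exists_lift_series g.continuous hg p.length p rfl T hT
  rw [← hq]
  exact H23.TopDim.length_le_dim_subset q (S := closure {y}) (by
    rw [hqT]; exact isClosed_closure.closure_subset_iff.2 (Set.singleton_subset_iff.2 hxS))

/-- Generic rank of the direct image of the structure sheaf, for maps finite over an open. -/
theorem rk_push_structure_generic [IsIntegral X] [IsIntegral Y] (f : Y ⟶ X) [QuasiCompact f] [QuasiSeparated f]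
    (hη : f (genericPoint Y) = genericPoint X) {V : X.Opens} (hV : IsAffineOpen V) (hxV : genericPoint X ∈ V)
    (hfin : IsFinite (f ∣_ V)) :
    CurveBundle.rk ((Scheme.Modules.pushforward f).obj (Coh.structureModule Y)) =
      f.residueDegree (genericPoint Y) := by
  have hmem : f (genericPoint Y) ∈ V := by rw [hη]; exact hxV
  haveI := hfin
  haveI : IsAffine (V : Scheme.{u}) := hV
  have hU : IsAffineOpen (f ⁻¹ᵁ V) := by
    haveI : IsAffine ((f ⁻¹ᵁ V : Y.Opens) : Scheme.{u}) := isAffine_of_isAffineHom (f ∣_ V)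
    assumption
  have happ : (f.app V).hom.Finite := by
    have h := IsFinite.finite_app (f ∣_ V) ⊤ (isAffineOpen_top _)
    rw [morphismRestrict_app] at h
    have h2 : (f.app (V.ι ''ᵁ ⊤)).hom.Finite := by
      simpa [RingHom.finite_respectsIso.cancel_right_isIso] using h
    rwa [Scheme.Opens.ι_image_top] at h2
  let M := (Scheme.Modules.pushforward f).obj (Coh.structureModule Y)
  have hM : Coh.IsQCoh M := QCoh.isQCoh_pushforward f QCoh.isQCoh_structureModule
  haveI : Nonempty V := ⟨⟨_, hxV⟩⟩
  haveI : Nonempty (f ⁻¹ᵁ V : Y.Opens) := ⟨⟨genericPoint Y, hmem⟩⟩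
  haveI : IsDomain Γ(X, V) := inferInstance
  haveI : IsDomain Γ(Y, f ⁻¹ᵁ V) := inferInstance
  letI := H23.CoverPush.alg f V
  letI := QCoh.stalkAlg (X := X) hxV
  letI := QCoh.stalkModule M hxV
  haveI := QCoh.isScalarTower_stalk M hxV
  haveI hloc := QCoh.isLocalization_stalk' hV hxV
  haveI := QCoh.isLocalizedModule_germLin hM hV hxV
  let p := (hV.primeIdealOf ⟨genericPoint X, hxV⟩).asIdeal.primeCompl
  have hp : p ≤ nonZeroDivisors Γ(X, V) := fun a ha => by
    refine mem_nonZeroDivisors_of_ne_zero ?_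
    rintro rfl
    exact ha (Ideal.zero_mem _)
  have h1 : CurveBundle.rk M = Module.finrank Γ(X, V) Γ(Y, f ⁻¹ᵁ V) :=
    (IsLocalization.finrank_eq (X.presheaf.stalk (genericPoint X)) p hp).trans
      (IsLocalizedModule.finrank_eq p (QCoh.germLin M hxV) hp)
  refine h1.trans ?_
  let K0 := X.presheaf.stalk (f (genericPoint Y))
  let L := Y.presheaf.stalk (genericPoint Y)
  let : Algebra Γ(X, V) K0 := (X.presheaf.germ V _ hmem).hom.toAlgebra
  let : Algebra Γ(Y, f ⁻¹ᵁ V) L := (Y.presheaf.germ (f ⁻¹ᵁ V) _ hmem).hom.toAlgebra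
  let : Algebra K0 L := (f.stalkMap (genericPoint Y)).hom.toAlgebra
  let : Algebra Γ(X, V) L :=
    ((Y.presheaf.germ (f ⁻¹ᵁ V) _ hmem).hom.comp (f.app V).hom).toAlgebra
  have : IsScalarTower Γ(X, V) K0 L := .of_algebraMap_eq fun z =>
    (Scheme.Hom.germ_stalkMap_apply f V (genericPoint Y) hmem z).symm
  have : IsScalarTower Γ(X, V) Γ(Y, f ⁻¹ᵁ V) L := .of_algebraMap_eq' rfl
  have : IsFractionRing Γ(Y, f ⁻¹ᵁ V) L :=
    functionField_isFractionRing_of_isAffineOpen Y (f ⁻¹ᵁ V) hU
  have : IsFractionRing Γ(X, V) K0 := by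
    have key : ∀ (y : X) (_ : y = genericPoint X) (h : y ∈ V),
        letI : Algebra Γ(X, V) (X.presheaf.stalk y) := (X.presheaf.germ V y h).hom.toAlgebra
        IsFractionRing Γ(X, V) (X.presheaf.stalk y) := by
      rintro y rfl h
      exact functionField_isFractionRing_of_isAffineOpen X V hV
    exact key _ hη hmem
  haveI : Module.Finite Γ(X, V) Γ(Y, f ⁻¹ᵁ V) := happ
  have : Algebra.IsIntegral Γ(X, V) Γ(Y, f ⁻¹ᵁ V) := Algebra.IsIntegral.of_finite _ _
  have : Algebra.IsAlgebraic Γ(X, V) Γ(Y, f ⁻¹ᵁ V) := Algebra.IsIntegral.isAlgebraic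
  have : FaithfulSMul Γ(X, V) Γ(Y, f ⁻¹ᵁ V) := by
    refine (faithfulSMul_iff_algebraMap_injective _ _).2 ?_
    refine Function.Injective.of_comp (f := Y.presheaf.germ (f ⁻¹ᵁ V) _ hmem) ?_
    refine (injective_iff_map_eq_zero ((Y.presheaf.germ (f ⁻¹ᵁ V) _ hmem).hom.comp (f.app V).hom)).2 ?_
    intro z hz
    have hz' : f.stalkMap (genericPoint Y) (X.presheaf.germ V _ hmem z) = 0 :=
      (Scheme.Hom.germ_stalkMap_apply f V (genericPoint Y) hmem z).trans hz
    let : Field K0 :=
      (show IsField (X.presheaf.stalk (f (genericPoint Y))) by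
        rw [hη]; exact Field.toIsField X.functionField).toField
    have h0 : X.presheaf.germ V _ hmem z = 0 :=
      (map_eq_zero_iff _ (f.stalkMap (genericPoint Y)).hom.injective).1 hz'
    exact IsFractionRing.injective Γ(X, V) K0 (h0.trans (map_zero _).symm)
  have h2 : Module.finrank K0 L = Module.finrank Γ(X, V) Γ(Y, f ⁻¹ᵁ V) :=
    congrArg Cardinal.toNat (Algebra.IsAlgebraic.rank_of_isFractionRing Γ(X, V) K0 Γ(Y, f ⁻¹ᵁ V) L)
  rw [← h2]
  let := (f.residueFieldMap (genericPoint Y)).hom.toAlgebra
  exact Algebra.finrank_eq_of_equiv_equiv (RingEquiv.ofBijective _ (S11584.bijective_residue hη))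
    (RingEquiv.ofBijective _ (S11584.bijective_residue (Y := Y) rfl)) (RingHom.ext fun z =>
      congr($(Scheme.residue_residueFieldMap f (genericPoint Y)) z))

theorem bijective_app_of_le_genLocus {M : Y.Modules} (hM : PicF.IsInvertible M) (s : Coh.structureModule Y ⟶ M)
    {W : Y.Opens} (hW : W ≤ CohB1.genLocus _ s) : Function.Bijective (s.app W) := by
  have hfun : (s.app W : _ → _) = fun r : Γ(Y, W) => r • AModX.res M (le_top : W ≤ ⊤) (InvX.one s) :=
    funext fun r => InvX.app_eq_smul s r
  rw [hfun]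
  have hof : InvX.ofSect (InvX.one s) = s := CurveRR.hom_ext_one (InvX.one_ofSect (InvX.one s))
  have hle : W ≤ H23.TrivBasic.locus (InvX.one s) := by
    show W ≤ CohB1.genLocus M (InvX.ofSect (InvX.one s))
    rw [hof]
    exact hW
  have h := H23.TrivBasic.isFrame_res_of_le_locus hle W le_rfl
  simp only [AModX.res_res] at h
  exact h

/-- The direct image of an invertible module at the generic point, generically finite case. -/
theorem len_push_invertible [IsIntegral X] [IsIntegral Y] [IsLocallyNoetherian X] (g : Y ⟶ X) [IsProper g]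
    (hη : g (genericPoint Y) = genericPoint X) (hfib : ∀ y, g y = genericPoint X → y = genericPoint Y)
    {M : Y.Modules} (hM : PicF.IsInvertible M) (s : Coh.structureModule Y ⟶ M) (hs : s ≠ 0) :
    Snapper.len ((Coh.push g).obj M) (genericPoint X) = (g.residueDegree (genericPoint Y) : ℚ) := by
  obtain ⟨x, hx⟩ := genLocus_nonempty hM s hs
  have hgen : genericPoint Y ∈ CohB1.genLocus _ s :=
    ((genericPoint_spec Y).specializes (Set.mem_univ x)).mem_open (CohB1.genLocus _ s).2 hx
  let V₀ : X.Opens := ⟨(g '' ((CohB1.genLocus _ s : Set Y)ᶜ))ᶜ,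
    (g.isClosedMap _ (CohB1.genLocus _ s).2.isClosed_compl).isOpen_compl⟩
  have hV₀ : genericPoint X ∈ V₀ := by
    rintro ⟨y, hy, e⟩
    exact hy (hfib y e ▸ hgen)
  haveI : IsIso ((DerSch.stalkFunctor X (genericPoint X)).map ((Coh.push g).map s)) := by
    refine isIso_stalk_of_bijective _ (U := V₀) (fun W hW => ?_) hV₀
    exact bijective_app_of_le_genLocus hM s fun y hy => not_not.1 fun h => hW hy ⟨y, h, rfl⟩
  have e := (asIso ((DerSch.stalkFunctor X (genericPoint X)).map ((Coh.push g).map s))).toLinearEquiv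
  obtain ⟨V, hV, hxV, hfin⟩ := (S2080.result g (genericPoint X) (by
    rw [(genericPoint_spec X).def, irreducibleComponents_eq_maximals_closed]
    exact ⟨⟨isClosed_univ, IrreducibleSpace.isIrreducible_univ X⟩, fun _ _ _ => Set.subset_univ _⟩)).1
      ((Set.finite_singleton (genericPoint Y)).subset fun y hy => hfib y hy)
  have hrk := rk_push_structure_generic g hη hV hxV hfin
  have hO : Coh.IsCoh ((Coh.push g).obj (Coh.structureModule Y)) := by
    haveI : IsLocallyNoetherian Y := LocallyOfFiniteType.isLocallyNoetherian g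
    exact ExistEasy.isCoh_pushforward_proper g QCoh.isCoh_structureModule'
  letI := (CurveBundle.isField_stalk_generic (X := X)).toField
  haveI := QCoh.finite_stalk_of_isFT hO.1 hO.2 (genericPoint X)
  have hlen : Module.length (X.presheaf.stalk (genericPoint X))
      (((Coh.push g).obj (Coh.structureModule Y)).presheaf.stalk (genericPoint X)) =
      (g.residueDegree (genericPoint Y) : ℕ∞) :=
    (H23.FiniteFibreSum.length_eq_finrank _ _).trans (congrArg _ hrk)
  rw [Snapper.len]
  exact congrArg Nat.cast ((congrArg ENat.toNat (e.length_eq.symm.trans hlen)).trans (ENat.toNat_coe _))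

end Groth.Agent.Nakai
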