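import Groth.Agent.Nakai.Mixed

/-!
# Kleiman's theorem for a nef and an ample module
-/

set_option autoImplicit false
set_option linter.style.haveILetI false
set_option linter.unusedSectionVars false
set_option backward.isDefEq.respectTransparency false
set_option backward.isDefEq.respectTransparency.types false
set_option maxHeartbeats 1000000

universe u

open CategoryTheory CategoryTheory.Limits AlgebraicGeometry TopologicalSpace Opposite
open Groth.Agent.H23.PicMul

noncomputable section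

namespace Groth.Agent.Nakai

open Groth.Agent

variable (k : Type u) [Field k] {X W : Scheme.{u}} [X.Over (Spec (CommRingCat.of k))]

/-- Nonnegative degree on all integral curves. -/
def Nef (L : X.Modules) : Prop :=
  ∀ (Z : Scheme.{u}) (i : Z ⟶ X), IsClosedImmersion i → IsIntegral Z → topologicalKrullDim Z = 1 →
    ∀ q : Polynomial ℚ, q.natDegree ≤ 1 →
      (∀ n, Snapper.χ k L ((Coh.push i).obj (Coh.structureModule Z)) n = q.eval (n : ℚ)) → 0 ≤ q.coeff 1

theorem Nef.pullback [W.Over (Spec (CommRingCat.of k))] (i : W ⟶ X) [IsClosedImmersion i]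
    (hi : i ≫ (X ↘ Spec (CommRingCat.of k)) = W ↘ Spec (CommRingCat.of k)) {L : X.Modules}
    (hL : PicF.IsInvertible L) (h : Nef k L) : Nef k ((Scheme.Modules.pullback i).obj L) := by
  intro Z j hj hZ hdim q hq hqn
  haveI := hj
  refine h Z (j ≫ i) inferInstance hZ hdim q hq fun n => ?_
  let e : (Coh.push i).obj ((Coh.push j).obj (Coh.structureModule Z)) ≅ (Coh.push (j ≫ i)).obj (Coh.structureModule Z) :=
    (Scheme.Modules.pushforwardComp j i).app _
  refine ((χ_congr k e n).symm.trans ?_).trans (hqn n)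
  exact χ_push k i hi hL (QCoh.isQCoh_pushforward j QCoh.isQCoh_structureModule) n

theorem χ_comb_push [W.Over (Spec (CommRingCat.of k))] (i : W ⟶ X) [IsAffineHom i]
    (hi : i ≫ (X ↘ Spec (CommRingCat.of k)) = W ↘ Spec (CommRingCat.of k)) {L A : X.Modules}
    (hL : PicF.IsInvertible L) (hA : PicF.IsInvertible A) (q p n : ℕ) :
    Snapper.χ k (comb L A q p) ((Coh.push i).obj (Coh.structureModule W)) n =
      Snapper.χ k (comb ((Scheme.Modules.pullback i).obj L) ((Scheme.Modules.pullback i).obj A) q p)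
        (Coh.structureModule W) n := by
  rw [χ_push k i hi (isInvertible_comb hL hA q p) QCoh.isQCoh_structureModule n]
  exact χ_congr_left k (cl_eq_iff.2 (pullCl_comb i L A q p)) _ n

theorem dim_univ_le {d : ℕ} (hdim : topologicalKrullDim X = d) :
    topologicalKrullDim ↥((⊤ : Closeds X) : Set X) ≤ d :=
  (Topology.IsInducing.subtypeVal.topologicalKrullDim_le).trans hdim.le

theorem le_pred_of_lt {v : WithBot ℕ∞} {e : ℕ} (h : v < ((e + 1 : ℕ) : WithBot ℕ∞)) : v ≤ (e : WithBot ℕ∞) := by
  cases v with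
  | bot => exact bot_le
  | coe v =>
    refine WithBot.coe_le_coe.2 ((ENat.lt_add_one_iff (ENat.natCast_ne_top e)).1 ?_)
    have h' : v < ((e + 1 : ℕ) : ℕ∞) := WithBot.coe_lt_coe.1 h
    rwa [Nat.cast_add, Nat.cast_one] at h'

theorem ne_top_of_dim_eq {d : ℕ} (hdim : topologicalKrullDim X = d) : topologicalKrullDim X ≠ ⊤ := by
  rw [hdim]
  exact (lt_of_lt_of_le (WithBot.coe_lt_coe.2 (ENat.natCast_lt_top d)) le_top).ne

theorem ne_zero_of_mem_genLocus {M : X.Modules} {s : Coh.structureModule X ⟶ M} {x : X}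
    (hx : x ∈ CohB1.genLocus _ s) : s ≠ 0 := fun h2 => by
  obtain ⟨V, hxV, hVf⟩ := InvX.mem_genLocus hx
  have h5 : InvX.one s = 0 := by rw [h2]; rfl
  have h4 : (1 : Γ(X, V)) = 0 := (hVf V le_rfl).1 (by simp only [h5, map_zero, smul_zero])
  haveI : Nontrivial Γ(X, V) := (X.presheaf.germ V _ hxV).hom.domain_nontrivial
  exact one_ne_zero h4

variable [IsProper (X ↘ Spec (CommRingCat.of k))]

/-- A nonzero section: the cokernel. -/
theorem step [IsIntegral X] {e : ℕ} (hdim : topologicalKrullDim X = (e + 1 : ℕ)) {L A : X.Modules}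
    (hL : PicF.IsInvertible L) (hA : PicF.IsInvertible A) {c : ℕ → ℚ}
    (hc : IsMixed k L A (Coh.structureModule X) (e + 1) c) {a b : ℕ}
    (s : Coh.structureModule X ⟶ comb L A a b) (hs : s ≠ 0)
    (hcomp : ∀ ξ : X, topologicalKrullDim (closure ({ξ} : Set X)) = (e : WithBot ℕ∞) → ∀ γ,
      IsMixed k L A (Snapper.clMod ξ) e γ → ∀ i, i ≤ e → 0 ≤ γ i)
    (i : ℕ) (hi : i ≤ e) : 0 ≤ (i + 1) * a * c (i + 1) + (e + 1 - i : ℕ) * b * c i := by
  haveI := CurveCohLib.isNoetherian_of_proper (k := k) (X := X)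
  have hN := isInvertible_comb hL hA a b
  have hO : Coh.IsCoh (Coh.structureModule X) := QCoh.isCoh_structureModule'
  obtain ⟨P, hP, hPn⟩ := exists_poly₂ k hL hA hO (dim_univ_le hdim) (C := (⊤ : Closeds X)) fun x _ => trivial
  have hcP : ∀ j ≤ e + 1, c j = topC P (e + 1) j :=
    hc.unique k hL hA hO (dim_univ_le hdim) (C := (⊤ : Closeds X)) (fun x _ => trivial) (isMixed_topC k hP hPn)
  haveI : Mono s := InvEnd.mono_of_ne_zero CurveDeg.isInvertible_structureModule hN s hs
  have hQc : Coh.IsCoh (cokernel s) := QCoh.isCoh_cokernel QCoh.isQCoh_structureModule (AmpleVan.isCoh_invertible hN) s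
  let T : Closeds X := ⟨_, QCoh.isClosed_support_of_isFT hQc.1 hQc.2⟩
  have hTd : topologicalKrullDim ↥(T : Set X) ≤ (e : WithBot ℕ∞) := by
    have hne : (T : Set X) ≠ Set.univ := fun h => by
      obtain ⟨x, hx⟩ := genLocus_nonempty hN s hs
      exact support_cokernel_subset hN s (h.ge (Set.mem_univ x)) hx
    have hlt := H23.TopDim.dim_lt_of_ssubset (ne_top_of_dim_eq hdim) T.isClosed hne
    rw [hdim] at hlt
    exact le_pred_of_lt hlt
  let γ : ℕ → ℚ := fun j => (j + 1) * a * topC P (e + 1) (j + 1) + (e + 1 - j : ℕ) * b * topC P (e + 1) j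
  have hγ : IsMixed k L A (cokernel s) e γ := by
    intro q p r _ hrn
    rw [poly_unique (r := r) (r' := line P q a p b - line P q 0 p 0) fun n => ?_, coeff_line_sub hP]
    have h := congrFun (Snapper.χ_add k (isInvertible_comb hL hA q p)
      (S := ShortComplex.mk s (cokernel.π s) (cokernel.condition s))
      (.mk' (ShortComplex.exact_of_g_is_cokernel _ (cokernelIsCokernel s)) inferInstance inferInstance)
      hO (AmpleVan.isCoh_invertible hN) hQc) n
    simp only [Pi.add_apply] at h
    have h2 : Snapper.χ k (comb L A q p) (comb L A a b) n = (line P q a p b).eval (n : ℚ) :=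
      (χ_congr k (cl_eq_iff.1 (show PicF.cl (comb L A a b) =
          PicF.cl (CohB1.tensorMod (Coh.structureModule X) (comb L A a b)) from
        ((cl_tensor _ _).trans (by rw [← H23.PicMul.one_def, one_mul])).symm)).some n).trans (χ_eq_eval_line k hPn q p a b n)
    rw [h2, χ_eq_eval_line₀ k hPn q p n] at h
    rw [Polynomial.eval_sub, ← hrn]
    linarith
  have h := mixed_nonneg_of_components k hL hA hQc (C := T) hTd subset_rfl hcomp hγ i hi
  simp only [γ] at h
  rwa [← hcP (i + 1) (by omega), ← hcP i (by omega)] at h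

/-- The leading form at a point `(q, p)` with `p > 0`. -/
theorem form_pos {c : ℕ → ℚ} {d : ℕ} (h0 : 0 < c 0) (h : ∀ i, i ≤ d → 0 ≤ c i) {q p : ℕ} (hp : 0 < p) :
    0 < form c d q p := by
  refine Finset.sum_pos' (fun i hi => ?_) ⟨0, Finset.mem_range.2 d.succ_pos, ?_⟩
  · exact mul_nonneg (mul_nonneg (h i (Nat.lt_succ_iff.1 (Finset.mem_range.1 hi))) (by positivity)) (by positivity)
  · simpa using mul_pos h0 (by positivity)

theorem form_zero_left (c : ℕ → ℚ) (d : ℕ) (p : ℚ) : form c d 0 p = c 0 * p ^ d := by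
  rw [form, Finset.sum_eq_single 0]
  · simp
  · intro i _ hi
    simp [zero_pow hi]
  · simp

/-- The statement proved by induction on the dimension. -/
def KL (d : ℕ) : Prop :=
  ∀ (Z : Scheme.{u}) [Z.Over (Spec (CommRingCat.of k))] [IsProper (Z ↘ Spec (CommRingCat.of k))] [IsIntegral Z],
    topologicalKrullDim Z = d → ∀ L A : Z.Modules, PicF.IsInvertible L → Nef k L → CohB1.IsAmple A →
      ∀ c : ℕ → ℚ, IsMixed k L A (Coh.structureModule Z) d c → 0 < c 0 ∧ ∀ i, i ≤ d → 0 ≤ c i

theorem KL.mixed_closed {d : ℕ} (h : KL k d) {L A : X.Modules} (hL : PicF.IsInvertible L) (hn : Nef k L)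
    (hA : CohB1.IsAmple A) {Z : Scheme.{u}} (i : Z ⟶ X) [IsClosedImmersion i] [IsIntegral Z]
    (hdim : topologicalKrullDim Z = d) {c : ℕ → ℚ}
    (hc : IsMixed k L A ((Coh.push i).obj (Coh.structureModule Z)) d c) : 0 < c 0 ∧ ∀ j, j ≤ d → 0 ≤ c j := by
  letI : Z.Over (Spec (CommRingCat.of k)) := ⟨i ≫ (X ↘ Spec (CommRingCat.of k))⟩
  haveI : IsProper (Z ↘ Spec (CommRingCat.of k)) :=
    inferInstanceAs (IsProper (i ≫ (X ↘ Spec (CommRingCat.of k))))
  exact h Z hdim _ _ (PicClLib.isInvertible_pullback i hL) (hn.pullback k i rfl hL)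
    (AmpleDev.isAmple_pullback_finite k i hA) c fun q p r hr hrn =>
      hc q p r hr fun n => (χ_comb_push k i rfl hL hA.1 q p n).trans (hrn n)

/-- Positivity of the top number of `L^q ⊗ A^p` on an integral closed subscheme. -/
theorem KL.coeff_pos {d : ℕ} (h : KL k d) {L A : X.Modules} (hL : PicF.IsInvertible L) (hn : Nef k L)
    (hA : CohB1.IsAmple A) {Z : Scheme.{u}} (i : Z ⟶ X) [IsClosedImmersion i] [IsIntegral Z]
    (hdim : topologicalKrullDim Z = d) {q p : ℕ} (hp : 0 < p) {r : Polynomial ℚ} (hr : r.natDegree ≤ d)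
    (hrn : ∀ n, Snapper.χ k (comb L A q p) ((Coh.push i).obj (Coh.structureModule Z)) n = r.eval (n : ℚ)) :
    0 < r.coeff d := by
  haveI := CurveCohLib.isNoetherian_of_proper (k := k) (X := X)
  have hM : Coh.IsCoh ((Coh.push i).obj (Coh.structureModule Z)) := by
    haveI : IsNoetherian Z :=
      { __ := LocallyOfFiniteType.isLocallyNoetherian i
        __ := QuasiCompact.compactSpace_of_compactSpace i }
    exact QCoh.isCoh_push i QCoh.isCoh_structureModule'
  obtain ⟨c, hc⟩ := exists_mixed k hL hA.1 hM (C := ⟨Set.range i, i.isClosedEmbedding.isClosed_range⟩)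
    (d := d) ((AmpleDev.dim_eq_one_of_closedImmersion i rfl).symm.trans hdim).le
    (QCoh.support_push_subset i QCoh.isQCoh_structureModule)
  obtain ⟨h0, h1⟩ := h.mixed_closed k hL hn hA i hdim hc
  rw [hc q p r hr hrn]
  exact form_pos h0 h1 hp

/-- A rational slope. -/
theorem exists_slope {c : ℕ → ℚ} {e : ℕ} (h0 : 0 < c 0) (hc : ∀ i, i ≤ e + 1 → 0 ≤ c i) (hneg : c (e + 2) < 0) :
    ∃ q p : ℕ, 0 < q ∧ 0 < p ∧ 0 < form c (e + 2) q p ∧ ((e + 2 : ℕ) : ℚ) * q * c (e + 2) + p * c (e + 1) < 0 := by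
  obtain ⟨t, ht, h1, h2⟩ : ∃ t : ℚ, 0 < t ∧ 0 < form c (e + 2) 1 t ∧
      ((e + 2 : ℕ) : ℚ) * c (e + 2) + t * c (e + 1) < 0 := by
    have key : ∀ t : ℚ, 0 < t → ∀ j, j ≤ e + 1 → c j * t ^ (e + 2 - j) + c (e + 2) ≤ form c (e + 2) 1 t := by
      intro t ht j hj
      simp only [form, one_pow, mul_one]
      rw [Finset.sum_range_succ _ (e + 2), Nat.sub_self, pow_zero, mul_one]
      refine add_le_add ?_ le_rfl
      exact Finset.single_le_sum (f := fun i => c i * t ^ (e + 2 - i))
        (fun i hi => mul_nonneg (hc i (Nat.lt_succ_iff.1 (Finset.mem_range.1 hi))) (by positivity))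
        (Finset.mem_range.2 (Nat.lt_succ_iff.2 hj))
    rcases (hc (e + 1) le_rfl).lt_or_eq with h | h
    · set d : ℚ := ((e + 2 : ℕ) : ℚ) with hd
      have hd2 : (2 : ℚ) ≤ d := by rw [hd]; exact_mod_cast Nat.le_add_left 2 e
      refine ⟨-c (e + 2) * (d + 1) / (2 * c (e + 1)), by
        apply div_pos (mul_pos (by linarith) (by linarith)) (by linarith), ?_, ?_⟩
      · refine lt_of_lt_of_le ?_ (key _ (by
          apply div_pos (mul_pos (by linarith) (by linarith)) (by linarith)) (e + 1) le_rfl)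
        rw [show e + 2 - (e + 1) = 1 by omega, pow_one,
          show c (e + 1) * (-c (e + 2) * (d + 1) / (2 * c (e + 1))) = -c (e + 2) * (d + 1) / 2 by field_simp]
        nlinarith
      · rw [show -c (e + 2) * (d + 1) / (2 * c (e + 1)) * c (e + 1) = -c (e + 2) * (d + 1) / 2 by field_simp]
        nlinarith
    · refine ⟨max 1 (-c (e + 2) / c 0 + 1), lt_max_of_lt_left one_pos, ?_, ?_⟩
      · set t := max 1 (-c (e + 2) / c 0 + 1) with ht
        have h1 : (1 : ℚ) ≤ t := le_max_left _ _
        refine lt_of_lt_of_le ?_ (key t (by linarith) 0 (Nat.zero_le _))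
        have h2 : -c (e + 2) / c 0 + 1 ≤ t ^ (e + 2 - 0) := (le_max_right _ _).trans (le_self_pow₀ h1 (by omega))
        have h3 := mul_le_mul_of_nonneg_left h2 h0.le
        have h4 : c 0 * (-c (e + 2) / c 0 + 1) = -c (e + 2) + c 0 := by field_simp
        linarith
      · rw [← h, mul_zero, add_zero]
        exact mul_neg_of_pos_of_neg (by positivity) hneg
  have hnum : ((t.num.toNat : ℕ) : ℚ) = t * (t.den : ℚ) := by
    rw [Rat.mul_den_eq_num]
    exact_mod_cast Int.toNat_of_nonneg (Rat.num_nonneg.2 ht.le)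
  have hden : (0 : ℚ) < (t.den : ℚ) := by exact_mod_cast t.den_pos
  refine ⟨t.den, t.num.toNat, t.den_pos, Int.lt_toNat.2 (by simpa using Rat.num_pos.2 ht), ?_, ?_⟩
  · have e1 : form c (e + 2) (t.den : ℚ) (t.num.toNat : ℚ) = (t.den : ℚ) ^ (e + 2) * form c (e + 2) 1 t := by
      simp only [form, Finset.mul_sum, one_pow, hnum]
      refine Finset.sum_congr rfl fun i hi => ?_
      have hi' := Nat.lt_succ_iff.1 (Finset.mem_range.1 hi)
      rw [mul_pow, ← pow_mul_pow_sub (t.den : ℚ) hi']
      ring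
    rw [e1]
    exact mul_pos (pow_pos hden _) h1
  · rw [hnum]
    have := mul_neg_of_pos_of_neg hden h2
    linarith

include k in
/-- Kleiman's theorem on integral schemes. -/
theorem kl : ∀ d : ℕ, KL.{u} k d := by
  intro d
  induction d using Nat.strong_induction_on with
  | _ d ih =>
    intro X _ _ _ hdim L A hL hn hA c hc
    haveI := CurveCohLib.isNoetherian_of_proper (k := k) (X := X)
    have hO : Coh.IsCoh (Coh.structureModule X) := QCoh.isCoh_structureModule'
    have hpoly := fun (q p : ℕ) => exists_poly k (isInvertible_comb hL hA.1 q p) hO (C := (⊤ : Closeds X))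
      (fun x _ => trivial) (d := d) (dim_univ_le hdim)
    have h0 : 0 < c 0 := by
      obtain ⟨r, hr, hrn⟩ := hpoly 0 1
      have hpos := coeff_pos_of_isAmple_integral k d hdim hA r hr fun n =>
        (χ_congr_left k (by rw [cl_comb, pow_zero, pow_one, one_mul]) _ n).trans (hrn n)
      rwa [hc 0 1 r hr hrn, Nat.cast_zero, Nat.cast_one, form_zero_left, one_pow, mul_one] at hpos
    refine ⟨h0, ?_⟩
    rcases d with _ | e
    · intro i hi
      rw [Nat.le_zero.1 hi]
      exact h0.le
    have hcomp : ∀ ξ : X, topologicalKrullDim (closure ({ξ} : Set X)) = (e : WithBot ℕ∞) → ∀ γ,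
        IsMixed k L A (Snapper.clMod ξ) e γ → ∀ i, i ≤ e → 0 ≤ γ i := fun ξ hξ γ hγ => by
      haveI : IsIntegral (Scheme.IdealSheafData.vanishingIdeal
          (⟨closure ({ξ} : Set X), isClosed_closure⟩ : Closeds X)).subscheme := QCoh.isIntegral_closure_point ξ
      refine ((ih e (Nat.lt_succ_self e)).mixed_closed k hL hn hA _ ?_ hγ).2
      exact (AmpleDev.dim_eq_one_of_closedImmersion _ (H23.RedSub.range_vanishingIdeal _)).trans hξ
    have hlow : ∀ i, i ≤ e → 0 ≤ c i := by
      obtain ⟨a, ha, s, hs, -⟩ := (AmpleX.isAmple_iff.1 hA).2.2 (genericPoint X)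
      obtain ⟨t, ht⟩ := AmpleX.exists_section_of_cl_eq (B := comb L A 0 a)
        (by rw [cl_comb, cl_tensorPow, pow_zero, one_mul]) s
      intro i hi
      have h := step k hdim hL hA.1 hc t (ne_zero_of_mem_genLocus (ht ▸ hs)) hcomp i hi
      simp only [Nat.cast_zero, mul_zero, zero_mul, zero_add] at h
      have hpos : (0 : ℚ) < ((e + 1 - i : ℕ) : ℚ) * a := by
        refine mul_pos ?_ (by exact_mod_cast ha)
        exact_mod_cast (show 0 < e + 1 - i by omega)
      exact nonneg_of_mul_nonneg_right h hpos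
    suffices h : 0 ≤ c (e + 1) by
      intro i hi
      rcases eq_or_lt_of_le hi with rfl | hi
      exacts [h, hlow i (Nat.lt_succ_iff.1 hi)]
    rcases e with _ | e
    · obtain ⟨r, hr, hrn⟩ := hpoly 1 0
      have h := hn X (𝟙 X) inferInstance inferInstance hdim r hr fun n =>
        (χ_structure k n).symm.trans ((χ_congr_left k (by rw [cl_comb, pow_zero, pow_one, mul_one]) _ n).trans (hrn n))
      rw [hc 1 0 r hr hrn] at h
      simpa [form, Finset.sum_range_succ] using h
    by_contra hneg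
    rw [not_le] at hneg
    obtain ⟨q, p, -, hp, hf, hlt⟩ := exists_slope (e := e) h0 hlow hneg
    have hN := isInvertible_comb hL hA.1 q p
    have hNpos : Pos k (comb L A q p) := by
      intro Z i hi hZ d' _ hd' r hr hrn
      haveI := hi
      haveI := hZ
      by_cases hsurj : Set.range i = Set.univ
      · obtain rfl : d' = e + 2 := by
          have h : topologicalKrullDim ↥(Set.univ : Set X) = (d' : WithBot ℕ∞) :=
            hsurj ▸ (AmpleDev.dim_eq_one_of_closedImmersion i rfl).symm.trans hd'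
          rw [(Homeomorph.Set.univ X).isHomeomorph.topologicalKrullDim_eq, hdim] at h
          exact_mod_cast h.symm
        obtain ⟨φ⟩ := QCoh.push_structure_iso i (𝟙 X) (by simp [hsurj])
        rw [hc q p r hr fun n => ((χ_structure k n).trans (χ_congr k φ n)).trans (hrn n)]
        exact hf
      · have hlt' : d' < e + 2 := by
          have h := H23.TopDim.dim_lt_of_ssubset (ne_top_of_dim_eq hdim) i.isClosedEmbedding.isClosed_range hsurj
          rw [← AmpleDev.dim_eq_one_of_closedImmersion i rfl, hd', hdim] at h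
          exact_mod_cast h
        exact (ih d' hlt').coeff_pos k hL hn hA i hd' hp hr hrn
    obtain ⟨m, hm, s, hs, -⟩ := (AmpleX.isAmple_iff.1 (isAmple_of_pos k hN hNpos)).2.2 (genericPoint X)
    obtain ⟨t, ht⟩ := AmpleX.exists_section_of_cl_eq (B := comb L A (m * q) (m * p))
      (by rw [cl_tensorPow, cl_comb, cl_comb, mul_pow, ← pow_mul, ← pow_mul, mul_comm q, mul_comm p]) s
    have h := step k hdim hL hA.1 hc t (ne_zero_of_mem_genLocus (ht ▸ hs)) hcomp (e + 1) le_rfl
    rw [show e + 1 + 1 - (e + 1) = 1 by omega] at h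
    push_cast at h hlt
    have hm' : (0 : ℚ) < m := by exact_mod_cast hm
    nlinarith [mul_neg_of_pos_of_neg hm' hlt]

include k in
/-- `L^q ⊗ A^p` is ample for nef `L`, ample `A` and `p > 0`. -/
theorem isAmple_comb {L A : X.Modules} (hL : PicF.IsInvertible L) (hn : Nef k L) (hA : CohB1.IsAmple A)
    (q : ℕ) {p : ℕ} (hp : 0 < p) : CohB1.IsAmple (comb L A q p) := by
  refine isAmple_of_pos k (isInvertible_comb hL hA.1 q p) fun Z i hi hZ d _ hd r hr hrn => ?_
  haveI := hi
  haveI := hZ
  exact (kl k d).coeff_pos k hL hn hA i hd hp hr hrn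

end Groth.Agent.Nakai
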