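import Groth.Agent.AmpleDev.CurvesIn
import Groth.Agent.QCoh.DevissageTheta
import Groth.Agent.Snapper.IsoOn
import Groth.Agent.Lib.Euler

/-!
# Modules whose high twists are acyclic, and maps which are isomorphisms modulo them
-/

set_option linter.style.haveILetI false
set_option linter.unusedSectionVars false
set_option backward.isDefEq.respectTransparency false
set_option backward.isDefEq.respectTransparency.types false

universe u

open CategoryTheory CategoryTheory.Limits AlgebraicGeometry TopologicalSpace Opposite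
open Groth.Agent.H23.PicMul
open Groth.Agent.PnCoh.Finite (mapLin deltaLin)

noncomputable section

namespace Groth.Agent.Nakai

open Groth.Agent

variable {X : Scheme.{u}}

/-- The high twists have no higher cohomology. -/
def Small (L M : X.Modules) : Prop :=
  ∃ n₀ : ℕ, ∀ n, n₀ ≤ n → ∀ q, Subsingleton (Coh.HH X (CohB1.tensorMod M (CohB1.tensorPow L n)) (q + 1))

theorem Small.of_iso {L M N : X.Modules} (e : M ≅ N) : Small L M → Small L N := fun ⟨n₀, h⟩ =>
  ⟨n₀, fun n hn q => QCoh.subsingleton_HH_of_iso ((AmpleVan.tw (CohB1.tensorPow L n)).mapIso e) _ (h n hn q)⟩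

theorem Small.zero {L M : X.Modules} (hL : PicF.IsInvertible L) (hM : IsZero M) : Small L M := ⟨0, fun n _ q => by
  haveI := AmpleVan.isEquivalence_tw (InvX.isInvertible_tensorPow hL n)
  exact Euler.subsingleton_HH_of_isZero ((AmpleVan.tw (CohB1.tensorPow L n)).map_isZero hM) _⟩

theorem Small.ext {L : X.Modules} (hL : PicF.IsInvertible L) {S : ShortComplex X.Modules} (hS : S.ShortExact) :
    Small L S.X₁ → Small L S.X₃ → Small L S.X₂ := fun ⟨a, ha⟩ ⟨b, hb⟩ => ⟨max a b, fun n hn q => by
  haveI := AmpleVan.isEquivalence_tw (InvX.isInvertible_tensorPow hL n)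
  exact QCoh.subsingleton_HH_X₂ (hS.map_of_exact (AmpleVan.tw (CohB1.tensorPow L n))) _
    (ha n ((le_max_left _ _).trans hn) q) (hb n ((le_max_right _ _).trans hn) q)⟩

/-- Modules supported where `L` is ample on the integral closed subschemes. -/
theorem small_of_support (A : Type u) [CommRing A] [IsNoetherianRing A] [X.Over (Spec (CommRingCat.of A))]
    [IsProper (X ↘ Spec (CommRingCat.of A))] {L : X.Modules} (hL : PicF.IsInvertible L) {T : Set X}
    (h : ∀ (Z : Scheme.{u}) (i : Z ⟶ X), IsClosedImmersion i → IsIntegral Z → Set.range i ⊆ T →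
      CohB1.IsAmple ((Scheme.Modules.pullback i).obj L)) {M : X.Modules} (hM : Coh.IsCoh M)
    (hMT : CohB1.support M ⊆ T) : Small L M := by
  haveI : IsLocallyNoetherian X := LocallyOfFiniteType.isLocallyNoetherian (X ↘ Spec (CommRingCat.of A))
  haveI : CompactSpace X := AmpleVan.compactSpace_of_proper (A := A)
  haveI : IsNoetherian X := { __ := ‹IsLocallyNoetherian X›, __ := ‹CompactSpace X› }
  refine QCoh.devissage_ideals (Small L) (fun M N ⟨e⟩ hP => hP.of_iso e) (fun M h0 => Small.zero hL h0) T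
    (fun S hS _ _ _ p1 p3 => Small.ext hL hS p1 p3) ?_ hM hMT
  intro ξ hξT _ Z i _ hZ hr I ι hι hI _
  letI : Z.Over (Spec (CommRingCat.of A)) := ⟨i ≫ (X ↘ Spec (CommRingCat.of A))⟩
  haveI : IsProper (Z ↘ Spec (CommRingCat.of A)) :=
    inferInstanceAs (IsProper (i ≫ (X ↘ Spec (CommRingCat.of A))))
  haveI : IsLocallyNoetherian Z := LocallyOfFiniteType.isLocallyNoetherian i
  obtain ⟨n₀, hn⟩ := AmpleVan.exists_vanishing (A := A) (h Z i inferInstance hZ (hr.le.trans hξT))
    (QCoh.isCoh_of_mono ι QCoh.isCoh_structureModule' hI)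
  refine ⟨n₀, fun n hn' q => ?_⟩
  have hP := InvX.isInvertible_tensorPow hL n
  obtain ⟨e⟩ := AmpleDev.push_tensor_iso i hP I
  obtain ⟨ψ⟩ : Nonempty ((Scheme.Modules.pullback i).obj (CohB1.tensorPow L n) ≅
      CohB1.tensorPow ((Scheme.Modules.pullback i).obj L) n) := cl_eq_iff.1 (by
    show PicF.pullCl i (PicF.cl (CohB1.tensorPow L n)) = _
    rw [cl_tensorPow, cl_tensorPow, pullCl_pow]
    rfl)
  obtain ⟨l⟩ := PnCoh.exists_linearEquiv_push A i (rfl : i ≫ (X ↘ Spec (CommRingCat.of A)) = _)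
    (KFlatLib.isQCoh_tensor hI (ProjUPX.isQCoh_of_isInvertible (PicClLib.isInvertible_pullback i hP))) (q + 1)
  exact QCoh.subsingleton_HH_of_iso e.symm _ (l.toEquiv.subsingleton_congr.1
    (QCoh.subsingleton_HH_of_iso (PicGrp.tensorModIso (Iso.refl I) ψ.symm) _ (hn n hn' q)))

variable (k : Type u) [Field k] [X.Over (Spec (CommRingCat.of k))]

/-- The twists eventually have the same cohomology in degrees at least two. -/
def StableEq (L A B : X.Modules) : Prop :=
  ∃ n₀ : ℕ, ∀ n, n₀ ≤ n → ∀ q, 2 ≤ q → Module.finrank k (Coh.HH X (CohB1.tensorMod A (CohB1.tensorPow L n)) q) =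
    Module.finrank k (Coh.HH X (CohB1.tensorMod B (CohB1.tensorPow L n)) q)

theorem StableEq.symm {L A B : X.Modules} : StableEq k L A B → StableEq k L B A := fun ⟨a, ha⟩ =>
  ⟨a, fun n hn q hq => (ha n hn q hq).symm⟩

theorem StableEq.trans {L A B C : X.Modules} : StableEq k L A B → StableEq k L B C → StableEq k L A C :=
  fun ⟨a, ha⟩ ⟨b, hb⟩ => ⟨max a b, fun n hn q hq =>
    (ha n ((le_max_left _ _).trans hn) q hq).trans (hb n ((le_max_right _ _).trans hn) q hq)⟩

theorem finrank_eq_of_quotient {S : ShortComplex X.Modules} (hS : S.ShortExact) (p : ℕ)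
    (h₀ : Subsingleton (Coh.HH X S.X₃ p)) (h₁ : Subsingleton (Coh.HH X S.X₃ (p + 1))) :
    Module.finrank k (Coh.HH X S.X₁ (p + 1)) = Module.finrank k (Coh.HH X S.X₂ (p + 1)) := by
  refine (LinearEquiv.ofBijective (mapLin k S.f (p + 1)) ⟨?_, ?_⟩).finrank_eq
  · rw [← LinearMap.ker_eq_bot, ← Euler.range_deltaLin k hS p, eq_bot_iff]
    rintro _ ⟨y, rfl⟩
    rw [Subsingleton.elim y 0, map_zero]
    exact zero_mem _
  · rw [← LinearMap.range_eq_top, Euler.range_mapLin_f k hS (p + 1), eq_top_iff]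
    exact fun x _ => LinearMap.mem_ker.2 (Subsingleton.elim _ _)

theorem finrank_eq_of_sub {S : ShortComplex X.Modules} (hS : S.ShortExact) (p : ℕ)
    (h₀ : Subsingleton (Coh.HH X S.X₁ p)) (h₁ : Subsingleton (Coh.HH X S.X₁ (p + 1))) :
    Module.finrank k (Coh.HH X S.X₂ p) = Module.finrank k (Coh.HH X S.X₃ p) := by
  refine (LinearEquiv.ofBijective (mapLin k S.g p) ⟨?_, ?_⟩).finrank_eq
  · rw [← LinearMap.ker_eq_bot, ← Euler.range_mapLin_f k hS p, eq_bot_iff]
    rintro _ ⟨y, rfl⟩
    rw [Subsingleton.elim y 0, map_zero]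
    exact zero_mem _
  · rw [← LinearMap.range_eq_top, Euler.range_mapLin_g k hS p, eq_top_iff]
    exact fun x _ => LinearMap.mem_ker.2 (Subsingleton.elim _ _)

/-- A map which is an isomorphism modulo small modules. -/
theorem stableEq_of_map {L A B : X.Modules} (hL : PicF.IsInvertible L) (φ : A ⟶ B) (hk : Small L (kernel φ))
    (hc : Small L (cokernel φ)) : StableEq k L A B := by
  obtain ⟨a, ha⟩ := hk
  obtain ⟨b, hb⟩ := hc
  refine ⟨max a b, fun n hn q hq => ?_⟩
  obtain ⟨p, rfl⟩ := Nat.exists_eq_add_of_le' hq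
  haveI := AmpleVan.isEquivalence_tw (InvX.isInvertible_tensorPow hL n)
  let F := AmpleVan.tw (CohB1.tensorPow L n)
  let S₁ : ShortComplex X.Modules := ShortComplex.mk (kernel.ι φ) (Abelian.factorThruImage φ)
    ((cancel_mono (Abelian.image.ι φ)).1 (by rw [Category.assoc, Abelian.image.fac, kernel.condition, zero_comp]))
  have hS₁ : S₁.ShortExact :=
    { exact := ShortComplex.exact_of_f_is_kernel _ (KernelFork.IsLimit.ofι' _ _ fun {T} t ht =>
        ⟨kernel.lift φ t (by rw [← Abelian.image.fac φ, reassoc_of% ht, zero_comp]), kernel.lift_ι _ _ _⟩)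
      mono_f := inferInstance
      epi_g := inferInstance }
  let S₂ : ShortComplex X.Modules := ShortComplex.mk (Abelian.image.ι φ) (cokernel.π φ) (kernel.condition _)
  have hS₂ : S₂.ShortExact :=
    { exact := ShortComplex.exact_of_f_is_kernel _ (kernelIsKernel (cokernel.π φ))
      mono_f := inferInstance
      epi_g := inferInstance }
  have e₁ := finrank_eq_of_sub k (hS₁.map_of_exact F) (p + 2) (ha n ((le_max_left _ _).trans hn) (p + 1))
    (ha n ((le_max_left _ _).trans hn) (p + 2))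
  have e₂ := finrank_eq_of_quotient k (hS₂.map_of_exact F) (p + 1) (hb n ((le_max_right _ _).trans hn) p)
    (hb n ((le_max_right _ _).trans hn) (p + 1))
  exact e₁.trans e₂

/-- A map which is an isomorphism outside a locus where `L` is ample. -/
theorem stableEq_of_isoOn [IsProper (X ↘ Spec (CommRingCat.of k))] {L A B : X.Modules} (hL : PicF.IsInvertible L)
    {U : X.Opens} (h : ∀ (Z : Scheme.{u}) (i : Z ⟶ X), IsClosedImmersion i → IsIntegral Z →
      Set.range i ⊆ (U : Set X)ᶜ → CohB1.IsAmple ((Scheme.Modules.pullback i).obj L))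
    (hA : Coh.IsCoh A) (hB : Coh.IsCoh B) (φ : A ⟶ B) (hφ : Snapper.IsoOn U φ) : StableEq k L A B := by
  haveI := CurveCohLib.isNoetherian_of_proper (k := k) (X := X)
  obtain ⟨hk, hc⟩ := Snapper.support_subset_compl hφ
  exact stableEq_of_map k hL φ (small_of_support k hL h (QCoh.isCoh_kernel hA hB φ) hk)
    (small_of_support k hL h (QCoh.isCoh_cokernel hA.1 hB φ) hc)

end Groth.Agent.Nakai
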