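import Groth.Agent.Snapper.Components
import Groth.Agent.CohBasic.SnapperInt
import Mathlib.Algebra.Group.ForwardDiff

/-!
# Self-intersection numbers as leading coefficients
-/

set_option linter.style.haveILetI false
set_option linter.unusedSectionVars false
set_option backward.isDefEq.respectTransparency false
set_option backward.isDefEq.respectTransparency.types false

universe u

open CategoryTheory CategoryTheory.Limits AlgebraicGeometry TopologicalSpace Opposite
open Groth.Agent.H23.PicMul
open scoped fwdDiff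

noncomputable section

namespace Groth.Agent.Nakai

open Groth.Agent

variable {X : Scheme.{u}}

/-- Twists by several copies of one module. -/
theorem cl_tensorPows_const (L M : X.Modules) : ∀ {d : ℕ} (n : Fin d → ℕ),
    PicF.cl (Curv2.tensorPows M d (fun _ => L) n) = PicF.cl M * PicF.cl L ^ ∑ i, n i
  | 0, n => by simp [Curv2.tensorPows]
  | d + 1, n => by
    show PicF.cl (CohB1.tensorMod (Curv2.tensorPows M d (fun _ => L) fun i => n i.castSucc)
      (CohB1.tensorPow L (n (Fin.last d)))) = _
    rw [cl_tensor, cl_tensorPows_const L M, cl_tensorPow, Fin.sum_univ_castSucc, pow_add, mul_assoc]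

theorem alt_sum_eq_coeff {d : ℕ} (q : Polynomial ℚ) (hq : q.natDegree ≤ d) :
    ∑ j ∈ Finset.range (d + 1), (-1 : ℚ) ^ (d - j) * d.choose j * q.eval (j : ℚ) = q.coeff d * d.factorial := by
  have h := congrFun (show (fwdDiff (1 : ℚ))^[d] q.eval = fun _ => q.coeff d * d.factorial by
    rcases hq.lt_or_eq with h | h
    · rw [Polynomial.fwdDiff_iter_eq_zero_of_degree_lt h, Polynomial.coeff_eq_zero_of_natDegree_lt h]
      simp only [zero_mul]
      rfl
    · subst h
      rw [Polynomial.fwdDiff_iter_degree_eq_factorial]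
      rfl) 0
  rw [fwdDiff_iter_eq_sum_shift] at h
  refine Eq.trans (Finset.sum_congr rfl fun j _ => ?_) h
  simp [zsmul_eq_mul]

variable (k : Type u) [Field k] [X.Over (Spec (CommRingCat.of k))]
  [IsProper (X ↘ Spec (CommRingCat.of k))]

/-- The polynomial of the twists. -/
theorem exists_poly {L M : X.Modules} (hL : PicF.IsInvertible L) (hM : Coh.IsCoh M) {C : Closeds X}
    (hMC : CohB1.support M ⊆ C) {d : ℕ} (hd : topologicalKrullDim ↥(C : Set X) ≤ d) :
    ∃ q : Polynomial ℚ, q.natDegree ≤ d ∧ ∀ n, Snapper.χ k L M n = q.eval (n : ℚ) := by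
  obtain ⟨q, hq, h⟩ := Snapper.isPolyLt_of_dim_lt k hL (d + 1) C
    (lt_of_le_of_lt hd (by exact_mod_cast Nat.lt_succ_self d)) M hM hMC
  refine ⟨q, ?_, h⟩
  rcases eq_or_ne q 0 with rfl | h0
  · simp
  · rw [← Polynomial.natDegree_lt_iff_degree_lt h0] at hq
    omega

/-- The coefficient of `n₁⋯n_d` is `d!` times the leading coefficient. -/
theorem coeff_eq {L M : X.Modules} {d : ℕ} {q : Polynomial ℚ} (hq : q.natDegree ≤ d)
    (hqn : ∀ n, Snapper.χ k L M n = q.eval (n : ℚ)) (P : MvPolynomial (Fin d) ℚ)
    (hP : ∀ n : Fin d → ℕ, (Curv2.euler k X (Curv2.tensorPows M d (fun _ => L) n) : ℚ) =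
      MvPolynomial.eval (fun i => (n i : ℚ)) P) :
    MvPolynomial.coeff (Finsupp.equivFunOnFinite.symm fun _ : Fin d => 1) P = q.coeff d * d.factorial := by
  classical
  have hval : ∀ n : Fin d → ℕ, MvPolynomial.eval (fun i => (n i : ℚ)) P = q.eval ((∑ i, n i : ℕ) : ℚ) := fun n => by
    rw [← hP n, ← hqn]
    refine congrArg Int.cast (CurveCohLib.euler_congr (k := k) ((cl_eq_iff.1 ?_).some))
    show _ = PicF.cl (CohB1.tensorMod M (CohB1.tensorPow L _))
    rw [cl_tensorPows_const, cl_tensor, cl_tensorPow]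
  have hdeg : P.totalDegree ≤ d := by
    rw [show P = Polynomial.aeval (∑ i : Fin d, MvPolynomial.X i) q from Snapper.eq_of_eval_nat fun n => by
      rw [hval]
      refine Eq.symm ?_
      show (MvPolynomial.eval (fun i => (n i : ℚ))) (Polynomial.aeval _ q) = _
      rw [Polynomial.aeval_def, Polynomial.hom_eval₂, Nat.cast_sum]
      rw [show (MvPolynomial.eval fun i => (n i : ℚ)).comp (algebraMap ℚ (MvPolynomial (Fin d) ℚ)) = RingHom.id ℚ from
        RingHom.ext fun c => MvPolynomial.eval_C c, Polynomial.eval₂_id]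
      simp]
    rw [Polynomial.aeval_eq_sum_range]
    refine MvPolynomial.totalDegree_finsetSum_le fun j hj => (MvPolynomial.totalDegree_smul_le _ _).trans ?_
    refine (MvPolynomial.totalDegree_pow _ _).trans (le_trans (Nat.mul_le_mul_left _
      (MvPolynomial.totalDegree_finsetSum_le fun i _ => (MvPolynomial.totalDegree_X i).le)) ?_)
    rw [Finset.mem_range] at hj
    omega
  rw [← CohBasic.alt_sum_eval P hdeg, ← alt_sum_eq_coeff q hq]
  have h := Finset.sum_powerset_apply_card (x := (Finset.univ : Finset (Fin d)))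
    (f := fun j => (-1 : ℚ) ^ (d - j) * q.eval (j : ℚ))
  rw [Finset.card_univ, Fintype.card_fin] at h
  refine Eq.trans (Finset.sum_congr rfl fun S _ => ?_) (h.trans (Finset.sum_congr rfl fun j _ => ?_))
  · rw [Finset.card_sdiff_of_subset (Finset.subset_univ S), Finset.card_univ, Fintype.card_fin]
    refine congrArg (_ * ·) ?_
    have := hval fun i => if i ∈ S then 1 else 0
    simp only [Nat.cast_ite, Nat.cast_one, Nat.cast_zero, Finset.sum_boole] at this
    rw [this]
    simp
  · rw [nsmul_eq_mul]; ring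

end Groth.Agent.Nakai
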