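import Groth.Agent.Nakai.Gen
import Groth.Agent.Nakai.Uni
import Groth.Agent.ShStabLib.DimFinite
import Groth.Agent.AmpleX.QuasiAffine
import Mathlib.Analysis.Polynomial.Basic

/-!
# The Nakai-Moishezon criterion, sufficiency
-/

set_option linter.style.haveILetI false
set_option linter.unusedSectionVars false
set_option backward.isDefEq.respectTransparency false
set_option backward.isDefEq.respectTransparency.types false
set_option maxHeartbeats 1000000

universe u

open CategoryTheory CategoryTheory.Limits AlgebraicGeometry TopologicalSpace Opposite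
open Groth.Agent.H23.PicMul

noncomputable section

namespace Groth.Agent.Nakai

open Groth.Agent

variable (k : Type u) [Field k] {X W : Scheme.{u}} [X.Over (Spec (CommRingCat.of k))]

/-- The top self-intersection numbers on all integral closed subschemes are positive. -/
def Pos (L : X.Modules) : Prop :=
  ∀ (Z : Scheme.{u}) (i : Z ⟶ X), IsClosedImmersion i → IsIntegral Z → ∀ d : ℕ, 0 < d →
    topologicalKrullDim Z = d → ∀ q : Polynomial ℚ, q.natDegree ≤ d →
      (∀ n, Snapper.χ k L ((Coh.push i).obj (Coh.structureModule Z)) n = q.eval (n : ℚ)) → 0 < q.coeff d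

/-- Euler characteristics of the twists of a direct image. -/
theorem χ_push [W.Over (Spec (CommRingCat.of k))] (i : W ⟶ X) [IsAffineHom i]
    (hi : i ≫ (X ↘ Spec (CommRingCat.of k)) = W ↘ Spec (CommRingCat.of k)) {L : X.Modules}
    (hL : PicF.IsInvertible L) {M : W.Modules} (hM : Coh.IsQCoh M) (n : ℕ) :
    Snapper.χ k L ((Coh.push i).obj M) n = Snapper.χ k ((Scheme.Modules.pullback i).obj L) M n := by
  have hP := InvX.isInvertible_tensorPow hL n
  obtain ⟨e⟩ := AmpleDev.push_tensor_iso i hP M
  obtain ⟨ψ⟩ : Nonempty ((Scheme.Modules.pullback i).obj (CohB1.tensorPow L n) ≅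
      CohB1.tensorPow ((Scheme.Modules.pullback i).obj L) n) := cl_eq_iff.1 (by
    show PicF.pullCl i (PicF.cl (CohB1.tensorPow L n)) = _
    rw [cl_tensorPow, cl_tensorPow, pullCl_pow]
    rfl)
  refine congrArg Int.cast ?_
  show Curv2.euler k X (CohB1.tensorMod _ _) = Curv2.euler k W (CohB1.tensorMod M _)
  have h1 : Curv2.euler k X ((Coh.push i).obj (CohB1.tensorMod M ((Scheme.Modules.pullback i).obj (CohB1.tensorPow L n)))) =
      Curv2.euler k W (CohB1.tensorMod M ((Scheme.Modules.pullback i).obj (CohB1.tensorPow L n))) :=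
    AmpleDev.euler_push k i hi
      (KFlatLib.isQCoh_tensor hM (ProjUPX.isQCoh_of_isInvertible (PicClLib.isInvertible_pullback i hP)))
  exact ((CurveCohLib.euler_congr (k := k) e).trans h1).trans
    (CurveCohLib.euler_congr (k := k) (PicGrp.tensorModIso (Iso.refl M) ψ))

/-- Isomorphic modules have the same Euler characteristics of twists. -/
theorem χ_congr {L A B : X.Modules} (e : A ≅ B) (n : ℕ) : Snapper.χ k L A n = Snapper.χ k L B n :=
  congrArg Int.cast (CurveCohLib.euler_congr (k := k) ((AmpleVan.tw (CohB1.tensorPow L n)).mapIso e))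

/-- Positivity passes to closed subschemes. -/
theorem Pos.pullback [W.Over (Spec (CommRingCat.of k))] (i : W ⟶ X) [IsClosedImmersion i]
    (hi : i ≫ (X ↘ Spec (CommRingCat.of k)) = W ↘ Spec (CommRingCat.of k)) {L : X.Modules}
    (hL : PicF.IsInvertible L) (h : Pos k L) : Pos k ((Scheme.Modules.pullback i).obj L) := by
  intro Z j hj hZ d hd hdim q hq hqn
  haveI := hj
  refine h Z (j ≫ i) inferInstance hZ d hd hdim q hq fun n => ?_
  let O := Coh.structureModule Z
  let e : (Coh.push i).obj ((Coh.push j).obj O) ≅ (Coh.push (j ≫ i)).obj O :=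
    (Scheme.Modules.pushforwardComp j i).app O
  refine ((χ_congr k e n).symm.trans ?_).trans (hqn n)
  exact χ_push k i hi hL (QCoh.isQCoh_pushforward j QCoh.isQCoh_structureModule) n

variable [IsProper (X ↘ Spec (CommRingCat.of k))] {L : X.Modules}

theorem χ_structure (n : ℕ) : Snapper.χ k L (Coh.structureModule X) n =
    Snapper.χ k L ((Coh.push (𝟙 X)).obj (Coh.structureModule X)) n :=
  χ_congr k ((Scheme.Modules.pushforwardId X).app (Coh.structureModule X)).symm n

include k in
/-- The linking of a line bundle with the structure sheaf makes the higher cohomology stable. -/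
theorem exists_section [IsIntegral X] (hL : PicF.IsInvertible L) {d : ℕ} (hd : 0 < d)
    (hdim : topologicalKrullDim X = d) (hpos : Pos k L)
    (hsub : ∀ (W : Scheme.{u}) (i : W ⟶ X), IsClosedImmersion i → IsIntegral W → Set.range i ≠ Set.univ →
      CohB1.IsAmple ((Scheme.Modules.pullback i).obj L)) :
    ∃ (a : ℕ) (_ : 0 < a) (s : Coh.structureModule X ⟶ CohB1.tensorPow L a), s ≠ 0 := by
  haveI := CurveCohLib.isNoetherian_of_proper (k := k) (X := X)
  obtain ⟨U, hU, e, he⟩ := InvX.exists_frame hL (genericPoint X)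
  obtain ⟨K, I, a, b, c, hK, hI, ha, hb, hc⟩ := Snapper.exists_link_frame hL he
  have hT : ∀ (W : Scheme.{u}) (i : W ⟶ X), IsClosedImmersion i → IsIntegral W → Set.range i ⊆ (U : Set X)ᶜ →
      CohB1.IsAmple ((Scheme.Modules.pullback i).obj L) := fun W i h1 h2 h3 => hsub W i h1 h2 fun h =>
    (h3 (h.ge (Set.mem_univ (genericPoint X)))) hU
  have hO := QCoh.isCoh_structureModule' (X := X)
  obtain ⟨n₀, hn₀⟩ := (stableEq_of_isoOn k hL hT hK hO a ha).symm.trans k
    ((stableEq_of_isoOn k hL hT hK hI b hb).trans k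
      (stableEq_of_isoOn k hL hT (AmpleVan.isCoh_invertible hL) hI c hc).symm)
  let h : ℕ → ℕ → ℕ := fun n q =>
    Module.finrank k (Coh.HH X (CohB1.tensorMod (Coh.structureModule X) (CohB1.tensorPow L n)) q)
  have hstab : ∀ j q, 2 ≤ q → h (n₀ + j) q = h n₀ q := fun j q hq => by
    induction j with
    | zero => rfl
    | succ j ih =>
      rw [← ih]
      refine Eq.trans ?_ (hn₀ (n₀ + j) (Nat.le_add_right _ _) q hq).symm
      refine (CurveCohLib.hhEquiv (k := k) ((cl_eq_iff.1 ?_).some) q).finrank_eq
      rw [cl_tensor, cl_tensor, cl_tensorPow, cl_tensorPow, ← H23.PicMul.one_def, one_mul, ← add_assoc, pow_succ']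
  obtain ⟨B, hB⟩ := Euler.exists_bound (X := X) k
  let Cst : ℤ := ∑ q ∈ Finset.range B, (h n₀ q : ℤ)
  obtain ⟨q, hq, hqn⟩ := exists_poly k (L := L) hL hO (C := (⊤ : Closeds X)) (fun x _ => trivial) (d := d) (by
    refine le_trans (Topology.IsInducing.subtypeVal.topologicalKrullDim_le) hdim.le)
  have hlead : 0 < q.coeff d := hpos X (𝟙 X) inferInstance inferInstance d hd hdim q hq
    fun n => (χ_structure k n).symm.trans (hqn n)
  have hqd : q.natDegree = d := le_antisymm hq (Polynomial.le_natDegree_of_ne_zero hlead.ne')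
  have htend : Filter.Tendsto (fun n : ℕ => q.eval (n : ℚ)) Filter.atTop Filter.atTop := by
    refine (Polynomial.tendsto_atTop_of_leadingCoeff_nonneg q ?_ ?_).comp tendsto_natCast_atTop_atTop
    · exact Polynomial.natDegree_pos_iff_degree_pos.1 (hqd ▸ hd)
    · rw [Polynomial.leadingCoeff, hqd]; exact hlead.le
  obtain ⟨j, hj⟩ := Filter.eventually_atTop.1 (htend.eventually_gt_atTop (Cst : ℚ))
  let n := n₀ + j + 1
  have hgt : (Cst : ℤ) < Curv2.euler k X (CohB1.tensorMod (Coh.structureModule X) (CohB1.tensorPow L n)) := by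
    have := hj n (by omega)
    rw [← hqn n] at this
    exact (Int.cast_lt (R := ℚ)).1 this
  have hpos0 : 0 < h n 0 := by
    by_contra h0
    push Not at h0
    refine absurd hgt (not_lt.2 ?_)
    refine le_of_eq_of_le (Euler.euler_eq_sum k _ B fun i hi => hB _ (KFlatLib.isQCoh_tensor QCoh.isQCoh_structureModule
      (ProjUPX.isQCoh_of_isInvertible (InvX.isInvertible_tensorPow hL n))) i hi) ?_
    refine Finset.sum_le_sum fun q _ => ?_
    rcases Nat.lt_or_ge q 2 with hq2 | hq2
    · interval_cases q
      · rw [show Module.finrank k (Coh.HH X (CohB1.tensorMod (Coh.structureModule X) (CohB1.tensorPow L n)) 0) = 0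
          from Nat.le_zero.1 h0]
        simp
      · rw [pow_one, neg_one_mul]
        exact (Int.neg_nonpos_of_nonneg (Int.natCast_nonneg _)).trans (Int.natCast_nonneg _)
    · show (-1 : ℤ) ^ q * (h n q : ℤ) ≤ _
      rw [show h n q = h n₀ q from (by rw [show n = n₀ + (j + 1) from add_assoc _ _ _]; exact hstab (j + 1) q hq2)]
      calc (-1 : ℤ) ^ q * (h n₀ q : ℤ) ≤ |(-1 : ℤ) ^ q * (h n₀ q : ℤ)| := le_abs_self _
        _ = h n₀ q := by rw [abs_mul, abs_pow, abs_neg, abs_one, one_pow, one_mul, Nat.abs_cast]
  let M := CohB1.tensorMod (Coh.structureModule X) (CohB1.tensorPow L n)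
  haveI : Nontrivial (Coh.HH X M 0) := Module.nontrivial_of_finrank_pos hpos0
  obtain ⟨t, ht⟩ := exists_ne (0 : Coh.HH X M 0)
  obtain ⟨φ⟩ : Nonempty (M ≅ CohB1.tensorPow L n) := cl_eq_iff.1 (by rw [cl_tensor, ← H23.PicMul.one_def, one_mul])
  refine ⟨n, Nat.succ_pos _, InvX.ofSect (Sheaf.H.equiv₀ (Coh.toAb M) isTerminalTop t) ≫ φ.hom, fun h0 => ?_⟩
  have h1 : InvX.ofSect (Sheaf.H.equiv₀ (Coh.toAb M) isTerminalTop t) = 0 := by
    rw [← cancel_mono φ.hom, h0, zero_comp]
  refine ht ((Sheaf.H.equiv₀ (Coh.toAb M) isTerminalTop).injective ?_)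
  rw [map_zero]
  have h2 := InvX.one_ofSect (Sheaf.H.equiv₀ (Coh.toAb M) isTerminalTop t)
  rw [h1] at h2
  exact h2.symm

/-- Sufficiency in the criterion of Nakai and Moishezon for integral schemes. -/
theorem isAmple_of_pos_integral : ∀ (d : ℕ) {X : Scheme.{u}} [X.Over (Spec (CommRingCat.of k))]
    [IsProper (X ↘ Spec (CommRingCat.of k))] [IsIntegral X], topologicalKrullDim X ≤ d →
    ∀ {L : X.Modules}, PicF.IsInvertible L → Pos k L → CohB1.IsAmple L := by
  intro d
  induction d using Nat.strong_induction_on with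
  | _ d ih =>
    intro X _ _ _ hdim L hL hpos
    haveI := CurveCohLib.isNoetherian_of_proper (k := k) (X := X)
    obtain ⟨e, he⟩ : ∃ e : ℕ, topologicalKrullDim X = e := by
      haveI : Nonempty (IrreducibleCloseds X) :=
        ⟨⟨Set.univ, IrreducibleSpace.isIrreducible_univ X, isClosed_univ⟩⟩
      have h0 : (0 : WithBot ℕ∞) ≤ topologicalKrullDim X := Order.krullDim_nonneg
      revert hdim h0
      generalize topologicalKrullDim X = v
      intro hdim h0
      cases v with
      | bot => exact absurd h0 (not_le.2 (WithBot.bot_lt_coe _))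
      | coe v =>
        cases v with
        | top => exact absurd (WithBot.coe_le_coe.1 hdim) (not_le.2 (ENat.natCast_lt_top d))
        | coe v => exact ⟨v, rfl⟩
    have hed : e ≤ d := by exact_mod_cast he ▸ hdim
    rcases Nat.eq_zero_or_pos e with rfl | hepos
    · haveI : Subsingleton X := by
        refine ⟨fun x y => ?_⟩
        have huniv : ∀ z : X, closure ({z} : Set X) = Set.univ := fun z => by
          refine Snapper.eq_of_dim_eq isClosed_closure (IrreducibleSpace.isIrreducible_univ X) (Set.subset_univ _)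
            (d := 0) ((Topology.IsInducing.subtypeVal.topologicalKrullDim_le).trans he.le) (le_antisymm ?_ ?_)
          · exact (Topology.IsInducing.subtypeVal.topologicalKrullDim_le).trans he.le
          · haveI : Nonempty ↥(closure ({z} : Set X)) := ⟨⟨z, subset_closure rfl⟩⟩
            haveI : Nonempty (IrreducibleCloseds ↥(closure ({z} : Set X))) :=
              ⟨⟨closure {⟨z, subset_closure rfl⟩}, isIrreducible_singleton.closure, isClosed_closure⟩⟩
            exact Order.krullDim_nonneg
        exact (inseparable_iff_closure_eq.2 ((huniv x).trans (huniv y).symm)).eq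
      exact AmpleX.isAmple_of_isQuasiAffine hL
    · have hsub : ∀ (W : Scheme.{u}) (i : W ⟶ X), IsClosedImmersion i → IsIntegral W → Set.range i ≠ Set.univ →
          CohB1.IsAmple ((Scheme.Modules.pullback i).obj L) := fun W i h1 h2 h3 => by
        haveI := h1
        letI : W.Over (Spec (CommRingCat.of k)) := ⟨i ≫ (X ↘ Spec (CommRingCat.of k))⟩
        haveI : IsProper (W ↘ Spec (CommRingCat.of k)) :=
          inferInstanceAs (IsProper (i ≫ (X ↘ Spec (CommRingCat.of k))))
        refine ih (e - 1) (by omega) ?_ (PicClLib.isInvertible_pullback i hL) (Pos.pullback k i rfl hL hpos)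
        have hr : IsClosed (Set.range i) := i.isClosedEmbedding.isClosed_range
        have hfin : topologicalKrullDim X ≠ ⊤ := by
          rw [he]
          exact (lt_of_lt_of_le (WithBot.coe_lt_coe.2 (ENat.natCast_lt_top e)) le_top).ne
        have hlt := H23.TopDim.dim_lt_of_ssubset hfin hr h3
        rw [← AmpleDev.dim_eq_one_of_closedImmersion i rfl, he] at hlt
        revert hlt
        generalize topologicalKrullDim W = v
        intro hlt
        cases v with
        | bot => exact bot_le
        | coe v =>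
          refine WithBot.coe_le_coe.2 ((ENat.lt_add_one_iff (ENat.natCast_ne_top (e - 1))).1 ?_)
          rw [show e = e - 1 + 1 by omega] at hlt
          have hlt' : v < ((e - 1 + 1 : ℕ) : ℕ∞) := WithBot.coe_lt_coe.1 hlt
          rwa [Nat.cast_add, Nat.cast_one] at hlt'
      obtain ⟨a, ha, s, hs⟩ := exists_section k hL hepos he hpos hsub
      obtain ⟨N, hN, hgen⟩ := exists_locus_power k hL hsub ha s hs
      refine AmpleX.isAmple_of_tensorPow hL hN
        (AVAmple.isAmple_of_nontriv (X ↘ Spec (CommRingCat.of k)) (InvX.isInvertible_tensorPow hL N)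
          (fun x => ?_) fun {C} j hj hC hT => ?_)
      · obtain ⟨t, ht⟩ := hgen x
        obtain ⟨V, hV, hxV, hVf⟩ := AmpleX.mem_locus.1 ht
        exact ⟨t, H23.TrivBasic.mem_locus_iff.2 ⟨V, hxV, hVf⟩⟩
      haveI := hj
      haveI := hC
      by_cases hs' : (Set.range j).Subsingleton
      · haveI : Subsingleton C := ⟨fun a b => j.isClosedEmbedding.injective (hs' ⟨a, rfl⟩ ⟨b, rfl⟩)⟩
        exact Finite.of_subsingleton
      exfalso
      have hirr : IsIrreducible (Set.range j) := by
        rw [← Set.image_univ]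
        exact (IrreducibleSpace.isIrreducible_univ C).image j j.continuous.continuousOn
      obtain ⟨D, hDi, hDd, hDs⟩ := AmpleDev.exists_curve _ j.isClosedEmbedding.isClosed_range hirr hs'
      haveI := hDi
      obtain ⟨g, hg⟩ := H23.RedSub.exists_lift_closed D.subschemeι j
        (by rw [Scheme.IdealSheafData.range_subschemeι]; exact hDs)
      have hTD : H23.TrivBasic.Triv ((Scheme.Modules.pullback D.subschemeι).obj (CohB1.tensorPow L N)) :=
        (H23.TrivBasic.triv_congr hg).1 ((H23.TrivBasic.triv_comp_iff g j).1 (hT.pullback g))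
      letI : D.subscheme.Over (Spec (CommRingCat.of k)) := ⟨D.subschemeι ≫ (X ↘ Spec (CommRingCat.of k))⟩
      haveI : IsProper (D.subscheme ↘ Spec (CommRingCat.of k)) :=
        inferInstanceAs (IsProper (D.subschemeι ≫ (X ↘ Spec (CommRingCat.of k))))
      haveI := CurveCohLib.isNoetherian_of_proper (k := k) (X := D.subscheme)
      have hDdim : topologicalKrullDim D.subscheme = (1 : ℕ) := (AmpleDev.dim_eq_one_of_closedImmersion D.subschemeι D.range_subschemeι).trans (by rw [hDd]; rfl)
      have hLD := PicClLib.isInvertible_pullback D.subschemeι hL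
      obtain ⟨q, hq, hqn⟩ := exists_poly k hLD QCoh.isCoh_structureModule' (C := (⊤ : Closeds D.subscheme))
        (fun x _ => trivial) (d := 1) ((Topology.IsInducing.subtypeVal.topologicalKrullDim_le).trans hDdim.le)
      have hlead := hpos D.subscheme D.subschemeι inferInstance hDi 1 one_pos hDdim q hq fun n =>
        (χ_push k D.subschemeι rfl hL QCoh.isQCoh_structureModule n).trans (hqn n)
      have hcl : PicF.cl ((Scheme.Modules.pullback D.subschemeι).obj L) ^ N = 1 := by
        have := cl_eq_iff.2 hTD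
        rw [← H23.PicMul.one_def] at this
        rw [← this]
        show _ = PicF.pullCl _ (PicF.cl (CohB1.tensorPow L N))
        rw [cl_tensorPow, pullCl_pow]
        rfl
      have hper : q.eval ((N : ℕ) : ℚ) = q.eval ((0 : ℕ) : ℚ) := by
        rw [← hqn, ← hqn]
        refine congrArg Int.cast (CurveCohLib.euler_congr (k := k) ((cl_eq_iff.1 ?_).some))
        show PicF.cl (CohB1.tensorMod _ (CohB1.tensorPow _ N)) = PicF.cl (CohB1.tensorMod _ (CohB1.tensorPow _ 0))
        rw [cl_tensor, cl_tensor, cl_tensorPow, cl_tensorPow, hcl, pow_zero]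
      rw [Polynomial.eval_eq_sum_range' (Nat.lt_succ_of_le hq), Polynomial.eval_eq_sum_range' (Nat.lt_succ_of_le hq)]
        at hper
      simp [Finset.sum_range_succ] at hper
      exact (mul_ne_zero hlead.ne' (Nat.cast_ne_zero.2 hN.ne')) (by simpa using hper)

include k in
/-- Sufficiency in the criterion of Nakai and Moishezon. -/
theorem isAmple_of_pos (hL : PicF.IsInvertible L) (h : Pos k L) : CohB1.IsAmple L := by
  refine AmpleDev.isAmple_of_integral k hL fun Z i h1 h2 => ?_
  haveI := h1
  letI : Z.Over (Spec (CommRingCat.of k)) := ⟨i ≫ (X ↘ Spec (CommRingCat.of k))⟩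
  haveI : IsProper (Z ↘ Spec (CommRingCat.of k)) :=
    inferInstanceAs (IsProper (i ≫ (X ↘ Spec (CommRingCat.of k))))
  obtain ⟨d, hd⟩ := ShStabLib.exists_dim_le_proper k Z
  exact isAmple_of_pos_integral k d (by simpa using (Homeomorph.Set.univ Z).isHomeomorph.topologicalKrullDim_eq ▸ hd Set.univ) (PicClLib.isInvertible_pullback i hL) (h.pullback k i rfl hL)

end Groth.Agent.Nakai
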