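import Groth.Agent.Nakai.Birat

/-!
# Intersection numbers along generically finite maps from projective varieties
-/

set_option autoImplicit false
set_option linter.style.haveILetI false
set_option linter.unusedSectionVars false
set_option backward.isDefEq.respectTransparency false
set_option backward.isDefEq.respectTransparency.types false
set_option maxHeartbeats 1000000

universe u

open CategoryTheory CategoryTheory.Limits AlgebraicGeometry TopologicalSpace Opposite
open Groth.Agent.H23.PicMul

noncomputable section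

namespace Groth.Agent.Nakai

open Groth.Agent

variable {X Y : Scheme.{u}}

theorem ne_zero_of_mem_genLocus' {M : X.Modules} {s : Coh.structureModule X ⟶ M} {x : X}
    (hx : x ∈ CohB1.genLocus _ s) : s ≠ 0 := fun h2 => by
  obtain ⟨V, hxV, hVf⟩ := InvX.mem_genLocus hx
  have h5 : InvX.one s = 0 := by rw [h2]; rfl
  have h4 : (1 : Γ(X, V)) = 0 := (hVf V le_rfl).1 (by simp only [h5, map_zero, smul_zero])
  haveI : Nontrivial Γ(X, V) := (X.presheaf.germ V _ hxV).hom.domain_nontrivial
  exact one_ne_zero h4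

theorem cl_tensorPows (M : X.Modules) : ∀ {r : ℕ} (L : Fin r → X.Modules) (n : Fin r → ℕ),
    PicF.cl (Curv2.tensorPows M r L n) = PicF.cl M * ∏ j, PicF.cl (L j) ^ n j
  | 0, L, n => by simp [Curv2.tensorPows]
  | r + 1, L, n => by
    show PicF.cl (CohB1.tensorMod (Curv2.tensorPows M r (fun i => L i.castSucc) fun i => n i.castSucc)
      (CohB1.tensorPow (L (Fin.last r)) (n (Fin.last r)))) = _
    rw [cl_tensor, cl_tensorPows M (fun i => L i.castSucc), cl_tensorPow, Fin.prod_univ_castSucc, mul_assoc]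

theorem isInvertible_tensorPows {M : X.Modules} (hM : PicF.IsInvertible M) : ∀ {r : ℕ} (L : Fin r → X.Modules),
    (∀ j, PicF.IsInvertible (L j)) → ∀ n : Fin r → ℕ, PicF.IsInvertible (Curv2.tensorPows M r L n)
  | 0, _, _, _ => hM
  | _ + 1, _, hL, _ => InvX.isInvertible_tensorMod (isInvertible_tensorPows hM _ (fun _ => hL _) _)
      (InvX.isInvertible_tensorPow (hL _) _)

theorem pullCl_prod (f : Y ⟶ X) : ∀ {r : ℕ} (c : Fin r → PicF.Cl X),
    PicF.pullCl f (∏ j, c j) = ∏ j, PicF.pullCl f (c j)
  | 0, _ => by simp [pullCl_one]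
  | r + 1, c => by rw [Fin.prod_univ_succ, Fin.prod_univ_succ, pullCl_mul, pullCl_prod f fun j => c j.succ]

/-- Coefficients in degree `d` only depend on the function up to lower degree. -/
theorem coeff_eq_of_isMPolyLt {r d : ℕ} {f g : (Fin r → ℕ) → ℚ} (h : Snapper.IsMPolyLt d fun n => f n - g n)
    {P Q : MvPolynomial (Fin r) ℚ} (hP : ∀ n, f n = MvPolynomial.eval (fun i => (n i : ℚ)) P)
    (hQ : ∀ n, g n = MvPolynomial.eval (fun i => (n i : ℚ)) Q) {α : Fin r →₀ ℕ}
    (hα : (α.sum fun _ e => e) = d) : MvPolynomial.coeff α P = MvPolynomial.coeff α Q := by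
  obtain ⟨R, hR, hRn⟩ := h
  have e : P - Q = R := Snapper.eq_of_eval_nat fun n => by rw [map_sub, ← hP, ← hQ, ← hRn]
  have h0 : MvPolynomial.coeff α R = 0 := by
    by_contra h
    have := hR α (MvPolynomial.mem_support_iff.2 h)
    omega
  rw [← e, MvPolynomial.coeff_sub, sub_eq_zero] at h0
  exact h0

theorem isInvertible_tensor_structure {M : X.Modules} (hM : PicF.IsInvertible M) :
    PicF.IsInvertible (CohB1.tensorMod (Coh.structureModule X) M) :=
  InvX.isInvertible_tensorMod CurveDeg.isInvertible_structureModule hM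

theorem mem_topPts_univ [IrreducibleSpace X] {d : ℕ} (hX : topologicalKrullDim X = d) (ξ : X) :
    ξ ∈ Snapper.topPts (⊤ : Closeds X) d ↔ ξ = genericPoint X := by
  constructor
  · rintro ⟨-, h⟩
    by_contra hne
    have hS : closure ({ξ} : Set X) ≠ Set.univ := fun h => hne ((show IsGenericPoint ξ Set.univ from h).eq (genericPoint_spec X))
    have hfin : topologicalKrullDim X ≠ ⊤ := by
      rw [hX]
      exact (lt_of_lt_of_le (WithBot.coe_lt_coe.2 (ENat.natCast_lt_top d)) le_top).ne
    have hlt := H23.TopDim.dim_lt_of_ssubset hfin isClosed_closure hS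
    rw [h, hX] at hlt
    exact lt_irrefl _ hlt
  · rintro rfl
    refine ⟨trivial, ?_⟩
    rw [(genericPoint_spec X).def]
    exact ((Homeomorph.Set.univ X).isHomeomorph.topologicalKrullDim_eq).trans hX

variable (k : Type u) [Field k] [X.Over (Spec (CommRingCat.of k))] [Y.Over (Spec (CommRingCat.of k))]
  [IsProper (X ↘ Spec (CommRingCat.of k))] [IsProper (Y ↘ Spec (CommRingCat.of k))]

include k in
/-- After a large twist the direct image has the same Euler characteristics up to lower degree. -/
theorem exists_twist [IsIntegral Y] (g : Y ⟶ X)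
    (hg : g ≫ (X ↘ Spec (CommRingCat.of k)) = Y ↘ Spec (CommRingCat.of k))
    {d : ℕ} (hY : topologicalKrullDim Y = d) {A : Y.Modules} (hA : CohB1.IsAmple A) {r : ℕ}
    {L : Fin r → X.Modules} (hL : ∀ j, PicF.IsInvertible (L j)) :
    ∃ M : Y.Modules, PicF.IsInvertible M ∧ ∃ s : Coh.structureModule Y ⟶ M, s ≠ 0 ∧
      Coh.IsCoh ((Coh.push g).obj M) ∧ Snapper.IsMPolyLt d fun n => Snapper.χs k L ((Coh.push g).obj M) n -
        Snapper.χs k (fun j => (Scheme.Modules.pullback g).obj (L j)) (Coh.structureModule Y) n := by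
  classical
  haveI := CurveCohLib.isNoetherian_of_proper (k := k) (X := X)
  haveI := CurveCohLib.isNoetherian_of_proper (k := k) (X := Y)
  haveI : IsProper g := by
    haveI : IsProper (g ≫ (X ↘ Spec (CommRingCat.of k))) := by rw [hg]; infer_instance
    exact IsProper.of_comp g (X ↘ Spec (CommRingCat.of k))
  obtain ⟨m₀, hm₀⟩ := exists_euler_push k g hg hA (QCoh.isCoh_structureModule' (X := Y)) hL
  obtain ⟨a, ha, s, hs, -⟩ := (AmpleX.isAmple_iff.1 hA).2.2 (genericPoint Y)
  let m := a * (m₀ + 1)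
  obtain ⟨hcoh, heul⟩ := hm₀ m ((Nat.le_succ _).trans (Nat.le_mul_of_pos_left _ ha))
  let M := CohB1.tensorMod (Coh.structureModule Y) (CohB1.tensorPow A m)
  have hMi : PicF.IsInvertible M := isInvertible_tensor_structure (InvX.isInvertible_tensorPow hA.1 m)
  obtain ⟨t, ht⟩ := AmpleX.exists_section_of_cl_eq (B := M)
    (by rw [cl_tensor, ← H23.PicMul.one_def, one_mul, cl_tensorPow, cl_tensorPow, cl_tensorPow, ← pow_mul])
    (InvX.powHom s (m₀ + 1))
  have htgen : genericPoint Y ∈ CohB1.genLocus M t := by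
    rw [ht, InvX.genLocus_powHom (InvX.isInvertible_tensorPow hA.1 a) s m₀]
    exact hs
  have ht0 : t ≠ 0 := ne_zero_of_mem_genLocus' htgen
  let L' : Fin r → Y.Modules := fun j => (Scheme.Modules.pullback g).obj (L j)
  have hL' : ∀ j, PicF.IsInvertible (L' j) := fun j => PicClLib.isInvertible_pullback g (hL j)
  haveI : Mono t := InvEnd.mono_of_ne_zero CurveDeg.isInvertible_structureModule hMi t ht0
  have hMc := AmpleVan.isCoh_invertible hMi
  have hC : Coh.IsCoh (cokernel t) := QCoh.isCoh_cokernel QCoh.isQCoh_structureModule hMc t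
  have hCdim : topologicalKrullDim ↥(CohB1.support (cokernel t)) < (d : WithBot ℕ∞) := by
    have hne : CohB1.support (cokernel t) ≠ Set.univ := fun h =>
      support_cokernel_subset hMi t (h.ge (Set.mem_univ (genericPoint Y))) htgen
    have hfin : topologicalKrullDim Y ≠ ⊤ := by
      rw [hY]
      exact (lt_of_lt_of_le (WithBot.coe_lt_coe.2 (ENat.natCast_lt_top d)) le_top).ne
    rw [← hY]
    exact H23.TopDim.dim_lt_of_ssubset hfin (QCoh.isClosed_support_of_isFT hC.1 hC.2) hne
  have hClt := Snapper.isMPolyLt_of_dim_lt k hL' d ⟨_, QCoh.isClosed_support_of_isFT hC.1 hC.2⟩ hCdim _ hC subset_rfl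
  have hadd := Snapper.χs_add k hL' (S := ShortComplex.mk t (cokernel.π t) (cokernel.condition t))
    (.mk' (ShortComplex.exact_of_g_is_cokernel _ (cokernelIsCokernel t)) inferInstance inferInstance)
    QCoh.isCoh_structureModule' hMc hC
  have heq : ∀ n, Snapper.χs k L ((Coh.push g).obj M) n = Snapper.χs k L' M n := fun n => by
    let N := Curv2.tensorPows (Coh.structureModule X) r L n
    have hN : PicF.IsInvertible N := isInvertible_tensorPows CurveDeg.isInvertible_structureModule L hL n
    have hNc : PicF.cl N = ∏ j, PicF.cl (L j) ^ n j := by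
      rw [cl_tensorPows, ← H23.PicMul.one_def, one_mul]
    obtain ⟨e⟩ : Nonempty (Curv2.tensorPows ((Coh.push g).obj M) r L n ≅
        CohB1.tensorMod ((Coh.push g).obj M) N) := cl_eq_iff.1 (by
      rw [cl_tensorPows, cl_tensor, hNc])
    obtain ⟨e'⟩ : Nonempty (CohB1.tensorMod M ((Scheme.Modules.pullback g).obj N) ≅
        Curv2.tensorPows M r L' n) := cl_eq_iff.1 (by
      rw [cl_tensorPows, cl_tensor]
      refine congrArg (PicF.cl M * ·) ?_
      show PicF.pullCl g (PicF.cl N) = _
      rw [hNc, pullCl_prod]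
      exact Finset.prod_congr rfl fun j _ => pullCl_pow g _ _)
    refine congrArg Int.cast ?_
    rw [CurveCohLib.euler_congr (k := k) e, ← CurveCohLib.euler_congr (k := k) e']
    exact (heul N n hN hNc).symm
  refine ⟨M, hMi, t, ht0, hcoh, hClt.congr fun n => ?_⟩
  have := congrFun hadd n
  simp only [Pi.add_apply] at this
  rw [heq]
  show Snapper.χs k L' M n - Snapper.χs k L' (Coh.structureModule Y) n = _
  linarith

include k in
/-- The projective case of the pullback formula. -/
theorem coeff_push_proj [IsIntegral X] [IsIntegral Y] (g : Y ⟶ X)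
    (hg : g ≫ (X ↘ Spec (CommRingCat.of k)) = Y ↘ Spec (CommRingCat.of k))
    (hη : g (genericPoint Y) = genericPoint X) {d : ℕ} (hY : topologicalKrullDim Y = d)
    (hX : topologicalKrullDim X = d) {A : Y.Modules} (hA : CohB1.IsAmple A) {r : ℕ} {L : Fin r → X.Modules}
    (hL : ∀ j, PicF.IsInvertible (L j)) {PY PX : MvPolynomial (Fin r) ℚ}
    (hPY : ∀ n, Snapper.χs k (fun j => (Scheme.Modules.pullback g).obj (L j)) (Coh.structureModule Y) n =
      MvPolynomial.eval (fun i => (n i : ℚ)) PY)
    (hPX : ∀ n, Snapper.χs k L (Coh.structureModule X) n = MvPolynomial.eval (fun i => (n i : ℚ)) PX)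
    {α : Fin r →₀ ℕ} (hα : (α.sum fun _ e => e) = d) :
    MvPolynomial.coeff α PY = (g.residueDegree (genericPoint Y) : ℚ) * MvPolynomial.coeff α PX := by
  classical
  haveI := CurveCohLib.isNoetherian_of_proper (k := k) (X := X)
  haveI := CurveCohLib.isNoetherian_of_proper (k := k) (X := Y)
  haveI : IsProper g := by
    haveI : IsProper (g ≫ (X ↘ Spec (CommRingCat.of k))) := by rw [hg]; infer_instance
    exact IsProper.of_comp g (X ↘ Spec (CommRingCat.of k))
  obtain ⟨M, hMi, t, ht0, hcoh, htw⟩ := exists_twist k g hg hY hA hL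
  obtain ⟨PM, -, hPM⟩ := Snapper.exists_mpoly k hL hcoh (d := d)
    ((Topology.IsInducing.subtypeVal.topologicalKrullDim_le).trans hX.le)
  have e1 : MvPolynomial.coeff α PM = MvPolynomial.coeff α PY :=
    coeff_eq_of_isMPolyLt (f := Snapper.χs k L ((Coh.push g).obj M)) htw hPM hPY hα
  let η := genericPoint X
  have hC' : topologicalKrullDim ↥((⊤ : Closeds X) : Set X) ≤ d :=
    (Topology.IsInducing.subtypeVal.topologicalKrullDim_le).trans hX.le
  have hT : ∀ ξ, ξ ∈ ({η} : Finset X) ↔ ξ ∈ Snapper.topPts (⊤ : Closeds X) d := fun ξ => by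
    rw [Finset.mem_singleton, mem_topPts_univ hX]
  have h1 : Snapper.IsMPolyLt d fun n => Snapper.χs k L ((Coh.push g).obj M) n -
      ∑ ξ ∈ ({η} : Finset X), Snapper.len ((Coh.push g).obj M) ξ * Snapper.χs k L (Snapper.clMod ξ) n :=
    Snapper.isMPolyLt_sub_components k hL hcoh hC' (fun x _ => trivial) {η} hT
  have h2 := Snapper.isMPolyLt_sub_components k hL (QCoh.isCoh_structureModule' (X := X)) hC' (fun x _ => trivial) {η} hT
  have hlenO : Snapper.len (Coh.structureModule X) η = 1 := by
    letI := (CurveBundle.isField_stalk_generic (X := X)).toField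
    haveI := QCoh.finite_stalk_of_isFT (QCoh.isCoh_structureModule' (X := X)).1 (QCoh.isCoh_structureModule' (X := X)).2 η
    have hrk := CurveBundle.rk_eq (InvEnd.isFinLocFreeOfRank_one (CurveDeg.isInvertible_structureModule (X := X)))
    rw [Snapper.len]
    exact (congrArg Nat.cast ((congrArg ENat.toNat ((H23.FiniteFibreSum.length_eq_finrank _ _).trans
      (congrArg _ hrk))).trans (ENat.toNat_coe _))).trans Nat.cast_one
  have hlenM : Snapper.len ((Coh.push g).obj M) η = (g.residueDegree (genericPoint Y) : ℚ) :=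
    len_push_invertible g hη (fun y hy => eq_generic_of_map_eq g g.isClosedMap hY hX hy) hMi t ht0
  rw [← e1, ← MvPolynomial.coeff_C_mul]
  refine coeff_eq_of_isMPolyLt (f := Snapper.χs k L ((Coh.push g).obj M))
    (g := fun n => (g.residueDegree (genericPoint Y) : ℚ) * Snapper.χs k L (Coh.structureModule X) n) ?_ hPM
    (fun n => by rw [map_mul, MvPolynomial.eval_C, ← hPX]) hα
  obtain ⟨R, hR, hRn⟩ := h2
  have hR2 : Snapper.IsMPolyLt d fun n => (g.residueDegree (genericPoint Y) : ℚ) *
      (Snapper.χs k L (Coh.structureModule X) n -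
        ∑ ξ ∈ ({η} : Finset X), Snapper.len (Coh.structureModule X) ξ * Snapper.χs k L (Snapper.clMod ξ) n) := by
    refine ⟨MvPolynomial.C (g.residueDegree (genericPoint Y) : ℚ) * R, fun β hβ => hR β ?_, fun n => ?_⟩
    · rw [MvPolynomial.mem_support_iff, MvPolynomial.coeff_C_mul] at hβ
      exact MvPolynomial.mem_support_iff.2 (right_ne_zero_of_mul hβ)
    · rw [map_mul, MvPolynomial.eval_C, ← hRn]
  refine (h1.sub hR2).congr fun n => ?_
  simp only [Pi.sub_apply, Finset.sum_singleton, hlenO, hlenM, one_mul]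
  ring


include k in
/-- The collapsing case. -/
theorem coeff_push_proj_zero [IsIntegral Y] (g : Y ⟶ X)
    (hg : g ≫ (X ↘ Spec (CommRingCat.of k)) = Y ↘ Spec (CommRingCat.of k))
    {d : ℕ} (hY : topologicalKrullDim Y = d) (hX : topologicalKrullDim X < (d : WithBot ℕ∞))
    {A : Y.Modules} (hA : CohB1.IsAmple A) {r : ℕ} {L : Fin r → X.Modules}
    (hL : ∀ j, PicF.IsInvertible (L j)) {PY : MvPolynomial (Fin r) ℚ}
    (hPY : ∀ n, Snapper.χs k (fun j => (Scheme.Modules.pullback g).obj (L j)) (Coh.structureModule Y) n =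
      MvPolynomial.eval (fun i => (n i : ℚ)) PY)
    {α : Fin r →₀ ℕ} (hα : (α.sum fun _ e => e) = d) : MvPolynomial.coeff α PY = 0 := by
  obtain ⟨M, hMi, t, ht0, hcoh, htw⟩ := exists_twist k g hg hY hA hL
  obtain ⟨Q, hQ, hQn⟩ := Snapper.isMPolyLt_of_dim_lt k hL d ⊤
    (lt_of_le_of_lt (Topology.IsInducing.subtypeVal.topologicalKrullDim_le) hX) _ hcoh (fun x _ => trivial)
  rw [← coeff_eq_of_isMPolyLt (f := Snapper.χs k L ((Coh.push g).obj M)) htw hQn hPY hα]
  by_contra h
  have := hQ α (MvPolynomial.mem_support_iff.2 h)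
  omega

end Groth.Agent.Nakai
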