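import Groth.Agent.Nakai.Pos

/-!
# Mixed intersection numbers of two invertible modules
-/

set_option autoImplicit false
set_option linter.style.haveILetI false
set_option linter.unusedSectionVars false
set_option backward.isDefEq.respectTransparency false
set_option backward.isDefEq.respectTransparency.types false
set_option maxHeartbeats 1000000

universe u

open CategoryTheory CategoryTheory.Limits AlgebraicGeometry TopologicalSpace Opposite
open Groth.Agent.H23.PicMul

noncomputable section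

namespace Groth.Agent.Nakai

open Groth.Agent

section Forms

/-- A binary form of degree `d` with coefficients `c`. -/
def form (c : ℕ → ℚ) (d : ℕ) (q p : ℚ) : ℚ := ∑ i ∈ Finset.range (d + 1), c i * q ^ i * p ^ (d - i)

theorem form_unique {c c' : ℕ → ℚ} {d : ℕ} (h : ∀ q p : ℕ, form c d q p = form c' d q p) (i : ℕ) (hi : i ≤ d) :
    c i = c' i := by
  let F : (ℕ → ℚ) → Polynomial ℚ := fun b => ∑ j ∈ Finset.range (d + 1), Polynomial.monomial j (b j)
  have hF : F c = F c' := Polynomial.eq_of_infinite_eval_eq _ _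
    ((Set.infinite_range_of_injective (Nat.cast_injective (R := ℚ))).mono (by
      rintro _ ⟨q, rfl⟩
      show Polynomial.eval _ _ = Polynomial.eval _ _
      simp only [F, Polynomial.eval_finsetSum, Polynomial.eval_monomial]
      simpa [form] using h q 1))
  have h2 := congrArg (fun P => Polynomial.coeff P i) hF
  simpa [F, Polynomial.finsetSum_coeff, Polynomial.coeff_monomial, Nat.lt_succ_iff.2 hi] using h2

/-- The coefficient below the top one, for a prescribed bound on the degree. -/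
def next (f : Polynomial ℚ) (n : ℕ) : ℚ := if n = 0 then 0 else f.coeff (n - 1)

theorem mul_linear (f : Polynomial ℚ) {n : ℕ} (hf : f.natDegree ≤ n) (a b : ℚ) :
    ((Polynomial.C a * Polynomial.X + Polynomial.C b) * f).natDegree ≤ n + 1 ∧
      ((Polynomial.C a * Polynomial.X + Polynomial.C b) * f).coeff (n + 1) = a * f.coeff n ∧
      ((Polynomial.C a * Polynomial.X + Polynomial.C b) * f).coeff n = a * next f n + b * f.coeff n := by
  refine ⟨?_, ?_, ?_⟩
  · refine Polynomial.natDegree_mul_le.trans ?_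
    have := Polynomial.natDegree_linear_le (a := a) (b := b)
    omega
  · simp [add_mul, mul_assoc, Polynomial.coeff_eq_zero_of_natDegree_lt (Nat.lt_succ_of_le hf)]
  · rcases n with _ | m
    · simp [next, add_mul, mul_assoc]
    · simp [next, add_mul, mul_assoc]

theorem linear_pow (q u p v : ℚ) : ∀ j i : ℕ,
    let f := (Polynomial.C p * Polynomial.X + Polynomial.C v) ^ j * (Polynomial.C q * Polynomial.X + Polynomial.C u) ^ i
    f.natDegree ≤ i + j ∧ f.coeff (i + j) = q ^ i * p ^ j ∧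
      next f (i + j) = i * u * q ^ (i - 1) * p ^ j + j * v * q ^ i * p ^ (j - 1) := by
  intro j
  induction j with
  | zero =>
    intro i
    induction i with
    | zero => simp [next]
    | succ i ih =>
      obtain ⟨h1, h2, h3⟩ := ih
      simp only [pow_zero, one_mul, add_zero] at h1 h2 h3 ⊢
      obtain ⟨g1, g2, g3⟩ := mul_linear _ h1 q u
      rw [pow_succ']
      refine ⟨g1, by rw [g2, h2]; ring, ?_⟩
      rw [next, if_neg (Nat.succ_ne_zero i), Nat.add_sub_cancel, g3, h2, h3]
      rcases i with _ | i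
      · simp
      · simp only [Nat.add_sub_cancel, mul_one, Nat.cast_zero, zero_mul, add_zero]
        push_cast
        ring
  | succ j ihj =>
    intro i
    obtain ⟨h1, h2, h3⟩ := ihj i
    obtain ⟨g1, g2, g3⟩ := mul_linear _ h1 p v
    simp only
    rw [pow_succ', mul_assoc, show i + (j + 1) = i + j + 1 from rfl]
    refine ⟨g1, by rw [g2, h2]; ring, ?_⟩
    rw [next, if_neg (Nat.succ_ne_zero (i + j)), Nat.add_sub_cancel, g3, h2, h3]
    rcases j with _ | j
    · simp; ring
    · simp only [Nat.add_sub_cancel]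
      push_cast
      ring

/-- The restriction of a polynomial in two variables to a line. -/
def line (P : MvPolynomial (Fin 2) ℚ) (q u p v : ℚ) : Polynomial ℚ :=
  MvPolynomial.aeval ![Polynomial.C q * Polynomial.X + Polynomial.C u, Polynomial.C p * Polynomial.X + Polynomial.C v] P

theorem eval_line (P : MvPolynomial (Fin 2) ℚ) (q u p v x : ℚ) :
    (line P q u p v).eval x = MvPolynomial.eval ![q * x + u, p * x + v] P := by
  rw [line]
  induction P using MvPolynomial.induction_on with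
  | C a => simp
  | add P Q hP hQ => simp [hP, hQ]
  | mul_X P i hP =>
    rw [map_mul, Polynomial.eval_mul, hP, MvPolynomial.aeval_X, map_mul, MvPolynomial.eval_X]
    fin_cases i <;> simp

/-- The top coefficients. -/
def topC (P : MvPolynomial (Fin 2) ℚ) (d : ℕ) (i : ℕ) : ℚ :=
  MvPolynomial.coeff (Finsupp.equivFunOnFinite.symm ![i, d - i]) P

theorem line_eq_sum (P : MvPolynomial (Fin 2) ℚ) (q u p v : ℚ) :
    line P q u p v = ∑ α ∈ P.support, Polynomial.C (MvPolynomial.coeff α P) *
      ((Polynomial.C p * Polynomial.X + Polynomial.C v) ^ α 1 * (Polynomial.C q * Polynomial.X + Polynomial.C u) ^ α 0) := by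
  conv_lhs => rw [line, P.as_sum, map_sum]
  refine Finset.sum_congr rfl fun α _ => ?_
  rw [MvPolynomial.aeval_monomial, Finsupp.prod_fintype _ _ (fun _ => pow_zero _), Fin.prod_univ_two,
    mul_comm ((_ : Polynomial ℚ) ^ α 1)]
  rfl

theorem sum_deg {P : MvPolynomial (Fin 2) ℚ} {d : ℕ} (hP : P.totalDegree ≤ d) {α : Fin 2 →₀ ℕ}
    (hα : α ∈ P.support) : α 0 + α 1 ≤ d := by
  have h := (MvPolynomial.le_totalDegree hα).trans hP
  rwa [Finsupp.sum_fintype _ _ (fun _ => rfl), Fin.sum_univ_two] at h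

/-- Sums over the monomials of top degree. -/
theorem sum_top {P : MvPolynomial (Fin 2) ℚ} {d : ℕ} (_hP : P.totalDegree ≤ d) (g : ℕ → ℕ → ℚ) :
    ∑ α ∈ P.support, (if α 0 + α 1 = d then MvPolynomial.coeff α P * g (α 0) (α 1) else 0) =
      ∑ i ∈ Finset.range (d + 1), topC P d i * g i (d - i) := by
  classical
  let e : ℕ → (Fin 2 →₀ ℕ) := fun i => Finsupp.equivFunOnFinite.symm ![i, d - i]
  rw [← Finset.sum_filter]
  have he : ∀ α : Fin 2 →₀ ℕ, α 0 + α 1 = d → e (α 0) = α := fun α h => by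
    refine Finsupp.ext fun j => ?_
    fin_cases j
    · rfl
    · show d - α 0 = α 1
      omega
  rw [← Finset.sum_subset (s₁ := (P.support.filter fun α => α 0 + α 1 = d).image fun α => α 0)
    (s₂ := Finset.range (d + 1)) (f := fun i => topC P d i * g i (d - i))]
  · rw [Finset.sum_image fun α hα β hβ h => by
      rw [← he α (Finset.mem_filter.1 hα).2, ← he β (Finset.mem_filter.1 hβ).2]
      exact congrArg e h]
    refine Finset.sum_congr rfl fun α hα => ?_
    obtain ⟨-, hd⟩ := Finset.mem_filter.1 hα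
    rw [topC, show Finsupp.equivFunOnFinite.symm ![α 0, d - α 0] = α from he α hd, show d - α 0 = α 1 by omega]
  · intro i hi
    obtain ⟨α, hα, rfl⟩ := Finset.mem_image.1 hi
    obtain ⟨-, hd⟩ := Finset.mem_filter.1 hα
    exact Finset.mem_range.2 (by omega)
  · intro i hi hni
    have : e i ∉ P.support := fun h => hni (Finset.mem_image.2 ⟨e i, Finset.mem_filter.2 ⟨h, by
      have := Finset.mem_range.1 hi
      show i + (d - i) = d
      omega⟩, rfl⟩)
    rw [show topC P d i = 0 from MvPolynomial.notMem_support_iff.1 this, zero_mul]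

theorem natDegree_line {P : MvPolynomial (Fin 2) ℚ} {d : ℕ} (hP : P.totalDegree ≤ d) (q u p v : ℚ) :
    (line P q u p v).natDegree ≤ d := by
  rw [line_eq_sum]
  refine Polynomial.natDegree_sum_le_of_forall_le _ _ fun α hα => ?_
  exact (Polynomial.natDegree_C_mul_le _ _).trans ((linear_pow q u p v (α 1) (α 0)).1.trans (sum_deg hP hα))

theorem coeff_line {P : MvPolynomial (Fin 2) ℚ} {d : ℕ} (hP : P.totalDegree ≤ d) (q u p v : ℚ) :
    (line P q u p v).coeff d = form (topC P d) d q p := by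
  rw [line_eq_sum, Polynomial.finsetSum_coeff]
  refine Eq.trans (Finset.sum_congr rfl fun α hα => ?_)
    ((sum_top hP fun i j => q ^ i * p ^ j).trans (Finset.sum_congr rfl fun i _ => (mul_assoc _ _ _).symm))
  rw [Polynomial.coeff_C_mul]
  split_ifs with h
  · rw [← h, (linear_pow q u p v (α 1) (α 0)).2.1]
  · rw [Polynomial.coeff_eq_zero_of_natDegree_lt (lt_of_le_of_lt (linear_pow q u p v (α 1) (α 0)).1
      (lt_of_le_of_ne (sum_deg hP hα) h)), mul_zero]

theorem coeff_line_sub {P : MvPolynomial (Fin 2) ℚ} {e : ℕ} (hP : P.totalDegree ≤ e + 1) (q u p v : ℚ) :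
    (line P q u p v - line P q 0 p 0).coeff e =
      form (fun i => (i + 1) * u * topC P (e + 1) (i + 1) + (e + 1 - i : ℕ) * v * topC P (e + 1) i) e q p := by
  have hterm : (line P q u p v - line P q 0 p 0).coeff e = ∑ i ∈ Finset.range (e + 1 + 1),
      topC P (e + 1) i * (i * u * q ^ (i - 1) * p ^ (e + 1 - i) + (e + 1 - i : ℕ) * v * q ^ i * p ^ (e + 1 - i - 1)) := by
    rw [Polynomial.coeff_sub, line_eq_sum, line_eq_sum, Polynomial.finsetSum_coeff, Polynomial.finsetSum_coeff,
      ← Finset.sum_sub_distrib, ← sum_top hP fun i j => (i * u * q ^ (i - 1) * p ^ j + j * v * q ^ i * p ^ (j - 1))]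
    refine Finset.sum_congr rfl fun α hα => ?_
    rw [Polynomial.coeff_C_mul, Polynomial.coeff_C_mul, ← mul_sub]
    obtain ⟨hu1, hu2, hu3⟩ := linear_pow q u p v (α 1) (α 0)
    obtain ⟨hz1, hz2, hz3⟩ := linear_pow q 0 p 0 (α 1) (α 0)
    split_ifs with h
    · rw [next, if_neg (by omega), show α 0 + α 1 - 1 = e by omega] at hu3 hz3
      rw [hu3, hz3]
      ring
    · rcases eq_or_lt_of_le (Nat.lt_succ_iff.1 (lt_of_le_of_ne (sum_deg hP hα) h)) with h' | h'
      · rw [← h', hu2, hz2, sub_self, mul_zero]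
      · rw [Polynomial.coeff_eq_zero_of_natDegree_lt (lt_of_le_of_lt hu1 h'),
          Polynomial.coeff_eq_zero_of_natDegree_lt (lt_of_le_of_lt hz1 h'), sub_self, mul_zero]
  rw [hterm]
  simp only [mul_add, Finset.sum_add_distrib]
  rw [Finset.sum_range_succ', Finset.sum_range_succ (fun i => topC P (e + 1) i *
    (((e + 1 - i : ℕ) : ℚ) * v * q ^ i * p ^ (e + 1 - i - 1))) (e + 1)]
  simp only [Nat.cast_zero, zero_mul, mul_zero, Nat.sub_self, add_zero, form, add_mul, Finset.sum_add_distrib]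
  congr 1
  · rw [← Finset.sum_add_distrib]
    refine Finset.sum_congr rfl fun i hi => ?_
    rw [Nat.add_sub_cancel, Nat.add_sub_add_right]
    push_cast
    ring
  · refine Finset.sum_congr rfl fun i hi => ?_
    rw [show e + 1 - i - 1 = e - i by omega]
    ring

end Forms

variable (k : Type u) [Field k] {X W : Scheme.{u}} [X.Over (Spec (CommRingCat.of k))]

/-- `L^q ⊗ A^p`. -/
abbrev comb (L A : X.Modules) (q p : ℕ) : X.Modules :=
  CohB1.tensorMod (CohB1.tensorPow L q) (CohB1.tensorPow A p)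

theorem cl_comb (L A : X.Modules) (q p : ℕ) : PicF.cl (comb L A q p) = PicF.cl L ^ q * PicF.cl A ^ p := by
  rw [comb, cl_tensor, cl_tensorPow, cl_tensorPow]

theorem isInvertible_comb {L A : X.Modules} (hL : PicF.IsInvertible L) (hA : PicF.IsInvertible A) (q p : ℕ) :
    PicF.IsInvertible (comb L A q p) :=
  H23.PicMul.isInvertible_tensor (InvX.isInvertible_tensorPow hL q) (InvX.isInvertible_tensorPow hA p)

theorem pullCl_comb (i : W ⟶ X) (L A : X.Modules) (q p : ℕ) :
    Nonempty ((Scheme.Modules.pullback i).obj (comb L A q p) ≅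
      comb ((Scheme.Modules.pullback i).obj L) ((Scheme.Modules.pullback i).obj A) q p) := cl_eq_iff.1 (by
  show PicF.pullCl i (PicF.cl (comb L A q p)) = _
  rw [cl_comb, cl_comb, pullCl_mul, pullCl_pow, pullCl_pow]
  rfl)

theorem χ_congr_left {L L' : X.Modules} (e : PicF.cl L = PicF.cl L') (M : X.Modules) (n : ℕ) :
    Snapper.χ k L M n = Snapper.χ k L' M n :=
  congrArg Int.cast (CurveCohLib.euler_congr (k := k) (cl_eq_iff.1 (by
    show PicF.cl (CohB1.tensorMod _ _) = PicF.cl (CohB1.tensorMod _ _)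
    rw [cl_tensor, cl_tensor, cl_tensorPow, cl_tensorPow, e])).some)

/-- `c i` are the numbers `(L^i · A^(d-i) · M)`, up to the multinomial normalization. -/
def IsMixed (L A M : X.Modules) (d : ℕ) (c : ℕ → ℚ) : Prop :=
  ∀ (q p : ℕ) (r : Polynomial ℚ), r.natDegree ≤ d →
    (∀ n, Snapper.χ k (comb L A q p) M n = r.eval (n : ℚ)) → r.coeff d = form c d q p

variable [IsProper (X ↘ Spec (CommRingCat.of k))] {L A : X.Modules}

theorem χs_comb (L A M : X.Modules) (q p a b n : ℕ) :
    Snapper.χ k (comb L A q p) (CohB1.tensorMod M (comb L A a b)) n =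
      Snapper.χs k ![L, A] M ![q * n + a, p * n + b] :=
  congrArg Int.cast (CurveCohLib.euler_congr (k := k) (cl_eq_iff.1 (by
    show PicF.cl (CohB1.tensorMod (CohB1.tensorMod M _) _) = _
    simp only [Curv2.tensorPows, cl_tensor, cl_tensorPow, mul_pow, ← pow_mul]
    simp only [Fin.castSucc_zero, Fin.last, Fin.reduceFinMk, Matrix.cons_val_zero, Matrix.cons_val_one, pow_add]
    ac_rfl)).some)

theorem χs_comb_zero (L A M : X.Modules) (q p n : ℕ) :
    Snapper.χ k (comb L A q p) M n = Snapper.χs k ![L, A] M ![q * n, p * n] := by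
  refine Eq.trans ?_ (χs_comb k L A M q p 0 0 n)
  refine χ_congr k (cl_eq_iff.1 ?_).some n
  rw [cl_tensor, cl_comb, pow_zero, pow_zero, one_mul, mul_one]

/-- A representing polynomial. -/
theorem exists_poly₂ (hL : PicF.IsInvertible L) (hA : PicF.IsInvertible A) {M : X.Modules} (hM : Coh.IsCoh M)
    {C : Closeds X} {d : ℕ} (hC : topologicalKrullDim ↥(C : Set X) ≤ d) (hMC : CohB1.support M ⊆ C) :
    ∃ P : MvPolynomial (Fin 2) ℚ, P.totalDegree ≤ d ∧
      ∀ n : Fin 2 → ℕ, Snapper.χs k ![L, A] M n = MvPolynomial.eval (fun i => (n i : ℚ)) P :=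
  Snapper.exists_mpoly k (L := ![L, A]) (fun i => by fin_cases i <;> simpa) hM
    ((H23.TopDim.dim_le_dim_of_subset hMC).trans hC)

theorem χ_eq_eval_line {M : X.Modules} {P : MvPolynomial (Fin 2) ℚ}
    (hPn : ∀ n : Fin 2 → ℕ, Snapper.χs k ![L, A] M n = MvPolynomial.eval (fun i => (n i : ℚ)) P) (q p a b n : ℕ) :
    Snapper.χ k (comb L A q p) (CohB1.tensorMod M (comb L A a b)) n = (line P q a p b).eval (n : ℚ) := by
  rw [χs_comb, hPn, eval_line]
  refine congrArg (fun g => MvPolynomial.eval g P) (funext fun i => ?_)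
  fin_cases i <;> simp

theorem χ_eq_eval_line₀ {M : X.Modules} {P : MvPolynomial (Fin 2) ℚ}
    (hPn : ∀ n : Fin 2 → ℕ, Snapper.χs k ![L, A] M n = MvPolynomial.eval (fun i => (n i : ℚ)) P) (q p n : ℕ) :
    Snapper.χ k (comb L A q p) M n = (line P q 0 p 0).eval (n : ℚ) := by
  rw [χs_comb_zero, hPn, eval_line]
  refine congrArg (fun g => MvPolynomial.eval g P) (funext fun i => ?_)
  fin_cases i <;> simp

theorem poly_unique {r r' : Polynomial ℚ} (h : ∀ n : ℕ, r.eval (n : ℚ) = r'.eval (n : ℚ)) : r = r' :=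
  Polynomial.eq_of_infinite_eval_eq _ _ ((Set.infinite_range_of_injective (Nat.cast_injective (R := ℚ))).mono
    (by rintro _ ⟨n, rfl⟩; exact h n))

theorem isMixed_topC {M : X.Modules} {P : MvPolynomial (Fin 2) ℚ} {d : ℕ} (hP : P.totalDegree ≤ d)
    (hPn : ∀ n : Fin 2 → ℕ, Snapper.χs k ![L, A] M n = MvPolynomial.eval (fun i => (n i : ℚ)) P) :
    IsMixed k L A M d (topC P d) := fun q p r _ hr => by
  rw [poly_unique (r := r) (r' := line P q 0 p 0) fun n => (hr n).symm.trans (χ_eq_eval_line₀ k hPn q p n),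
    coeff_line hP]

theorem exists_mixed (hL : PicF.IsInvertible L) (hA : PicF.IsInvertible A) {M : X.Modules} (hM : Coh.IsCoh M)
    {C : Closeds X} {d : ℕ} (hC : topologicalKrullDim ↥(C : Set X) ≤ d) (hMC : CohB1.support M ⊆ C) :
    ∃ c, IsMixed k L A M d c :=
  let ⟨P, hP, hPn⟩ := exists_poly₂ k hL hA hM hC hMC
  ⟨_, isMixed_topC k hP hPn⟩

/-- Mixed numbers are unique. -/
theorem IsMixed.unique (hL : PicF.IsInvertible L) (hA : PicF.IsInvertible A) {M : X.Modules} (hM : Coh.IsCoh M)
    {C : Closeds X} {d : ℕ} (hC : topologicalKrullDim ↥(C : Set X) ≤ d) (hMC : CohB1.support M ⊆ C)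
    {c c' : ℕ → ℚ} (hc : IsMixed k L A M d c) (hc' : IsMixed k L A M d c') (i : ℕ) (hi : i ≤ d) : c i = c' i := by
  obtain ⟨P, hP, hPn⟩ := exists_poly₂ k hL hA hM hC hMC
  refine form_unique (fun q p => ?_) i hi
  rw [← hc q p _ (natDegree_line hP _ _ _ _) (χ_eq_eval_line₀ k hPn q p),
    ← hc' q p _ (natDegree_line hP _ _ _ _) (χ_eq_eval_line₀ k hPn q p)]

/-- The sign conditions pass to coherent modules from their components. -/
theorem mixed_nonneg_of_components (hL : PicF.IsInvertible L) (hA : PicF.IsInvertible A) {M : X.Modules}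
    (hM : Coh.IsCoh M) {C : Closeds X} {d : ℕ} (hC : topologicalKrullDim ↥(C : Set X) ≤ d)
    (hMC : CohB1.support M ⊆ C)
    (h : ∀ ξ : X, topologicalKrullDim (closure ({ξ} : Set X)) = (d : WithBot ℕ∞) → ∀ c,
      IsMixed k L A (Snapper.clMod ξ) d c → ∀ i, i ≤ d → 0 ≤ c i)
    {c : ℕ → ℚ} (hc : IsMixed k L A M d c) (i : ℕ) (hi : i ≤ d) : 0 ≤ c i := by
  classical
  haveI := CurveCohLib.isNoetherian_of_proper (k := k) (X := X)
  have hfin := Snapper.finite_topPts hC
  let C' : X → Closeds X := fun ξ => ⟨closure ({ξ} : Set X), isClosed_closure⟩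
  have hsupp : ∀ ξ : X, CohB1.support (Snapper.clMod ξ) ⊆ (C' ξ : Set X) := fun ξ => by
    refine (QCoh.support_push_subset _ QCoh.isQCoh_structureModule).trans ?_
    rw [H23.RedSub.range_vanishingIdeal]
  have hcl : ∀ ξ : X, topologicalKrullDim (closure ({ξ} : Set X)) = (d : WithBot ℕ∞) →
      ∃ c, IsMixed k L A (Snapper.clMod ξ) d c := fun ξ hξ =>
    exists_mixed k hL hA (QCoh.isCoh_push_structure _) (C := C' ξ) hξ.le (hsupp ξ)
  choose cx hcx using hcl
  let cf : X → ℕ → ℚ := fun ξ j =>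
    if h : topologicalKrullDim (closure ({ξ} : Set X)) = (d : WithBot ℕ∞) then cx ξ h j else 0
  have hcf : ∀ ξ ∈ hfin.toFinset, IsMixed k L A (Snapper.clMod ξ) d (cf ξ) ∧ ∀ j ≤ d, 0 ≤ cf ξ j := fun ξ hξ => by
    have hξ' := (hfin.mem_toFinset.1 hξ).2
    have e : cf ξ = cx ξ hξ' := funext fun j => dif_pos hξ'
    rw [e]
    exact ⟨hcx ξ hξ', h ξ hξ' _ (hcx ξ hξ')⟩
  let c' : ℕ → ℚ := fun j => ∑ ξ ∈ hfin.toFinset, Snapper.len M ξ * cf ξ j
  have hc' : IsMixed k L A M d c' := by
    intro q p r hr hrn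
    have hN := isInvertible_comb hL hA q p
    obtain ⟨R, hR, hRn⟩ := isPolyLt_of_mpoly (Snapper.isMPolyLt_sub_components k (L := fun _ : Fin 1 => comb L A q p)
      (fun _ => hN) hM hC hMC hfin.toFinset fun _ => hfin.mem_toFinset)
    have hp : ∀ ξ ∈ hfin.toFinset, ∃ s : Polynomial ℚ, s.natDegree ≤ d ∧
        ∀ n, Snapper.χ k (comb L A q p) (Snapper.clMod ξ) n = s.eval (n : ℚ) := fun ξ hξ =>
      exists_poly k hN (QCoh.isCoh_push_structure _) (C := C' ξ) (hsupp ξ) (hfin.mem_toFinset.1 hξ).2.le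
    choose s hs hsn using hp
    let s' : X → Polynomial ℚ := fun ξ => if h : ξ ∈ hfin.toFinset then s ξ h else 0
    have heq : r = R + ∑ ξ ∈ hfin.toFinset, Polynomial.C (Snapper.len M ξ) * s' ξ := poly_unique fun n => by
      rw [Polynomial.eval_add, Polynomial.eval_finsetSum, ← hrn n, ← hRn n]
      rw [Finset.sum_congr rfl fun ξ hξ => by
        rw [Polynomial.eval_mul, Polynomial.eval_C, show s' ξ = s ξ hξ from dif_pos hξ, ← hsn ξ hξ n]]
      exact (sub_add_cancel _ _).symm
    rw [heq, Polynomial.coeff_add, Polynomial.coeff_eq_zero_of_degree_lt hR, zero_add, Polynomial.finsetSum_coeff]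
    simp only [form, c', Finset.sum_mul]
    rw [Finset.sum_comm]
    refine Finset.sum_congr rfl fun ξ hξ => ?_
    rw [Polynomial.coeff_C_mul, show s' ξ = s ξ hξ from dif_pos hξ, (hcf ξ hξ).1 q p _ (hs ξ hξ) (hsn ξ hξ),
      form, Finset.mul_sum]
    exact Finset.sum_congr rfl fun j _ => by ring
  rw [hc.unique k hL hA hM hC hMC hc' i hi]
  exact Finset.sum_nonneg fun ξ hξ => mul_nonneg (Nat.cast_nonneg _) ((hcf ξ hξ).2 i hi)

end Groth.Agent.Nakai
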