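import Groth.Agent.Nakai.Criterion
import Groth.Agent.Snapper.Components
import Groth.Agent.CurveCohLib.Nonspecial
import Groth.Agent.CurveCohLib.GlobGen
import Groth.Agent.AmpleX.Generated
import Groth.Agent.H23.PicInv

/-!
# Positivity of the leading coefficient for ample modules
-/

set_option linter.style.haveILetI false
set_option linter.unusedSectionVars false
set_option backward.isDefEq.respectTransparency false
set_option backward.isDefEq.respectTransparency.types false
set_option maxHeartbeats 1000000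

universe u

open CategoryTheory CategoryTheory.Limits AlgebraicGeometry TopologicalSpace Opposite
open Groth.Agent.H23.PicMul

noncomputable section

namespace Groth.Agent.Nakai

open Groth.Agent

variable (k : Type u) [Field k] {X : Scheme.{u}} [X.Over (Spec (CommRingCat.of k))]

/-- A point whose closure has a prescribed dimension below that of an irreducible space. -/
theorem exists_point_dim_pred [IrreducibleSpace X] {e : ℕ} (hdim : topologicalKrullDim X = (e + 1 : ℕ)) :
    ∃ ξ : X, topologicalKrullDim (closure ({ξ} : Set X)) = (e : WithBot ℕ∞) ∧ closure ({ξ} : Set X) ≠ Set.univ := by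
  obtain ⟨p, hp⟩ := Order.le_krullDim_iff.1 (show ((e + 1 : ℕ) : WithBot ℕ∞) ≤
    Order.krullDim (IrreducibleCloseds X) from hdim.ge)
  let p' : LTSeries (IrreducibleCloseds X) := RelSeries.take p ⟨e, by omega⟩
  let W : IrreducibleCloseds X := p ⟨e, by omega⟩
  obtain ⟨ξ, hξ⟩ := QuasiSober.sober W.isIrreducible W.isClosed
  have hne : closure ({ξ} : Set X) ≠ Set.univ := fun h => by
    have hlt : W < p ⟨e + 1, by omega⟩ := p.strictMono (show (⟨e, by omega⟩ : Fin (p.length + 1)) < ⟨e + 1, by omega⟩ from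
      Fin.mk_lt_mk.2 (Nat.lt_succ_self e))
    exact hlt.not_ge fun x _ => hξ.def.le (h.ge (Set.mem_univ x))
  refine ⟨ξ, ?_, hne⟩
  have hge : ((e : ℕ) : WithBot ℕ∞) ≤ topologicalKrullDim ↥(closure ({ξ} : Set X)) :=
    H23.TopDim.length_le_dim_subset p' (S := closure ({ξ} : Set X)) fun x hx => hξ.def.ge hx
  have hfin : topologicalKrullDim X ≠ ⊤ := by
    rw [hdim]
    exact (lt_of_lt_of_le (WithBot.coe_lt_coe.2 (ENat.natCast_lt_top (e + 1))) le_top).ne
  have hlt := H23.TopDim.dim_lt_of_ssubset hfin isClosed_closure hne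
  rw [hdim] at hlt
  refine le_antisymm ?_ hge
  revert hlt
  generalize topologicalKrullDim ↥(closure ({ξ} : Set X)) = v
  intro hlt
  cases v with
  | bot => exact bot_le
  | coe v =>
    refine WithBot.coe_le_coe.2 ((ENat.lt_add_one_iff (ENat.natCast_ne_top e)).1 ?_)
    have h' : v < ((e + 1 : ℕ) : ℕ∞) := WithBot.coe_lt_coe.1 hlt
    rwa [Nat.cast_add, Nat.cast_one] at h'

/-- A point with closure of full dimension. -/
theorem exists_point_dim {d : ℕ} (hdim : topologicalKrullDim X = d) :
    ∃ ξ : X, topologicalKrullDim (closure ({ξ} : Set X)) = (d : WithBot ℕ∞) := by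
  haveI : Nonempty (IrreducibleCloseds X) := by
    by_contra hcon
    rw [not_nonempty_iff] at hcon
    exact absurd (hdim.symm.trans Order.krullDim_eq_bot) (WithBot.natCast_ne_bot d)
  obtain ⟨p, hp⟩ := Order.le_krullDim_iff.1 (show ((d : ℕ) : WithBot ℕ∞) ≤
    Order.krullDim (IrreducibleCloseds X) from hdim.ge)
  obtain ⟨ξ, hξ⟩ := QuasiSober.sober p.last.isIrreducible p.last.isClosed
  refine ⟨ξ, le_antisymm ((Topology.IsInducing.subtypeVal.topologicalKrullDim_le).trans hdim.le) ?_⟩
  rw [← hp]
  exact H23.TopDim.length_le_dim_subset p fun x hx => hξ.def.ge hx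

variable [IsProper (X ↘ Spec (CommRingCat.of k))] {L : X.Modules}

/-- Polynomial values in one variable from those in one variable written as a multi-index. -/
theorem isPolyLt_of_mpoly {d : ℕ} {f : (Fin 1 → ℕ) → ℚ} (h : Snapper.IsMPolyLt d f) :
    Snapper.IsPolyLt d fun n => f fun _ => n := by
  obtain ⟨Q, hQ, hf⟩ := h
  refine ⟨∑ α ∈ Q.support, Polynomial.monomial (α 0) (Q.coeff α), ?_, fun n => ?_⟩
  · refine (Polynomial.degree_sum_le _ _).trans_lt ((Finset.sup_lt_iff (WithBot.bot_lt_coe _)).2 fun α hα => ?_)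
    refine (Polynomial.degree_monomial_le _ _).trans_lt (Nat.cast_lt.2 ?_)
    have := hQ α hα
    rwa [Finsupp.sum_fintype _ _ fun _ => rfl, Fin.sum_univ_one] at this
  · show f (fun _ => n) = _
    rw [hf, Polynomial.eval_finsetSum]
    simp only [Polynomial.eval_monomial, MvPolynomial.eval_eq', Fin.prod_univ_one]

/-- The leading coefficient is a positive combination of those of the components. -/
theorem coeff_pos_of_components (hL : PicF.IsInvertible L) {M : X.Modules} (hM : Coh.IsCoh M) {C : Closeds X}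
    {d : ℕ} (hC : topologicalKrullDim ↥(C : Set X) ≤ d) (hMC : CohB1.support M ⊆ C) {q : Polynomial ℚ}
    (hqn : ∀ n, Snapper.χ k L M n = q.eval (n : ℚ))
    (hpos : ∀ ξ : X, topologicalKrullDim (closure ({ξ} : Set X)) = (d : WithBot ℕ∞) → ∀ p : Polynomial ℚ,
      p.natDegree ≤ d → (∀ n, Snapper.χ k L (Snapper.clMod ξ) n = p.eval (n : ℚ)) → 0 < p.coeff d)
    {η : X} (hη : η ∈ CohB1.support M) (hηd : topologicalKrullDim (closure ({η} : Set X)) = (d : WithBot ℕ∞)) :
    0 < q.coeff d := by
  classical
  haveI := CurveCohLib.isNoetherian_of_proper (k := k) (X := X)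
  have hfin := Snapper.finite_topPts hC
  have h := isPolyLt_of_mpoly (Snapper.isMPolyLt_sub_components k (L := fun _ : Fin 1 => L) (fun _ => hL) hM hC hMC
    hfin.toFinset fun _ => hfin.mem_toFinset)
  obtain ⟨R, hR, hRn⟩ := h
  have hcl : ∀ ξ : X, topologicalKrullDim (closure ({ξ} : Set X)) = (d : WithBot ℕ∞) →
      ∃ p : Polynomial ℚ, p.natDegree ≤ d ∧ ∀ n, Snapper.χ k L (Snapper.clMod ξ) n = p.eval (n : ℚ) := fun ξ hξ => by
    refine exists_poly k (C := ⟨closure ({ξ} : Set X), isClosed_closure⟩) hL (QCoh.isCoh_push_structure _) ?_ hξ.le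
    refine (QCoh.support_push_subset _ QCoh.isQCoh_structureModule).trans ?_
    rw [H23.RedSub.range_vanishingIdeal]
  choose p hp hpn using hcl
  let p' : X → Polynomial ℚ := fun ξ =>
    if h : topologicalKrullDim (closure ({ξ} : Set X)) = (d : WithBot ℕ∞) then p ξ h else 0
  have hp' : ∀ ξ, topologicalKrullDim (closure ({ξ} : Set X)) = (d : WithBot ℕ∞) → 0 < (p' ξ).coeff d ∧
      ∀ n, Snapper.χ k L (Snapper.clMod ξ) n = (p' ξ).eval (n : ℚ) := fun ξ h => by
    simp only [p', dif_pos h]
    exact ⟨hpos ξ h _ (hp ξ h) (hpn ξ h), hpn ξ h⟩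
  have heq : q = R + ∑ ξ ∈ hfin.toFinset, Polynomial.C (Snapper.len M ξ) * p' ξ :=
    Polynomial.eq_of_infinite_eval_eq _ _ ((Set.infinite_range_of_injective (Nat.cast_injective (R := ℚ))).mono (by
      rintro _ ⟨n, rfl⟩
      show Polynomial.eval _ _ = Polynomial.eval _ _
      rw [Polynomial.eval_add, Polynomial.eval_finsetSum, ← hqn n, ← hRn n]
      rw [Finset.sum_congr rfl fun ξ hξ => by
        rw [Polynomial.eval_mul, Polynomial.eval_C, ← (hp' ξ (hfin.mem_toFinset.1 hξ).2).2 n]]
      exact (sub_add_cancel _ _).symm))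
  rw [heq, Polynomial.coeff_add, Polynomial.coeff_eq_zero_of_degree_lt hR, zero_add, Polynomial.finsetSum_coeff]
  simp only [Polynomial.coeff_C_mul]
  refine Finset.sum_pos' (fun ξ hξ => mul_nonneg (Nat.cast_nonneg _) (hp' ξ (hfin.mem_toFinset.1 hξ).2).1.le)
    ⟨η, hfin.mem_toFinset.2 ⟨hMC hη, hηd⟩, mul_pos ?_ (hp' η hηd).1⟩
  refine Nat.cast_pos.2 (Nat.pos_of_ne_zero fun h0 => hη ?_)
  rcases ENat.toNat_eq_zero.1 h0 with h0 | h0
  · exact (Module.length_eq_zero_iff.1 h0)
  · refine absurd h0 (CycLib.length_stalk_lt_top M hM fun y hy hyx => ?_).ne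
    exact Snapper.eq_of_specializes_topPts hC ⟨hMC hη, hηd⟩ (hMC (not_subsingleton_iff_nontrivial.2 hy)) hyx

theorem coeff_comp_sub (q : Polynomial ℚ) {e : ℕ} (hq : q.natDegree ≤ e + 1) (m : ℚ) :
    (q.comp (Polynomial.X + Polynomial.C m) - q).coeff e = m * (e + 1) * q.coeff (e + 1) := by
  rw [← Polynomial.taylor_apply, Polynomial.coeff_sub, Polynomial.taylor_coeff]
  have hdeg : (Polynomial.hasseDeriv e q).natDegree < 2 :=
    lt_of_le_of_lt (Polynomial.natDegree_hasseDeriv_le q e) (by omega)
  rw [Polynomial.eval_eq_sum_range' hdeg, Finset.sum_range_succ, Finset.sum_range_one, Polynomial.hasseDeriv_coeff,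
    Polynomial.hasseDeriv_coeff]
  simp [Nat.choose_self, Nat.choose_succ_self_right, add_comm 1 e]
  ring

include k in
/-- Ample modules have positive leading coefficient on integral schemes. -/
theorem coeff_pos_of_isAmple_integral : ∀ (d : ℕ) {X : Scheme.{u}} [X.Over (Spec (CommRingCat.of k))]
    [IsProper (X ↘ Spec (CommRingCat.of k))] [IsIntegral X], topologicalKrullDim X = d →
    ∀ {L : X.Modules}, CohB1.IsAmple L → ∀ q : Polynomial ℚ, q.natDegree ≤ d →
      (∀ n, Snapper.χ k L (Coh.structureModule X) n = q.eval (n : ℚ)) → 0 < q.coeff d := by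
  intro d
  induction d with
  | zero =>
    intro X _ _ _ hdim L hL q hq hqn
    haveI := CurveCohLib.isNoetherian_of_proper (k := k) (X := X)
    obtain ⟨n₀, hn₀⟩ := AmpleVan.exists_vanishing (A := k) hL (QCoh.isCoh_structureModule' (X := X))
    obtain ⟨m, hm, s, hxs, -⟩ := (AmpleX.isAmple_iff.1 hL).2.2 (genericPoint X)
    obtain ⟨t, ht⟩ := VeryAmple.exists_genLocus_mul hL.1 s (j := n₀ + 1) (Nat.succ_pos _)
    let N := m * (n₀ + 1)
    have hN : n₀ ≤ N := (Nat.le_succ _).trans (Nat.le_mul_of_pos_left _ hm)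
    let M := CohB1.tensorMod (Coh.structureModule X) (CohB1.tensorPow L N)
    obtain ⟨φ⟩ : Nonempty (CohB1.tensorPow L N ≅ M) :=
      cl_eq_iff.1 (by rw [cl_tensor, ← H23.PicMul.one_def, one_mul])
    have hχ : Snapper.χ k L (Coh.structureModule X) N = (Module.finrank k (Coh.HH X M 0) : ℚ) := by
      show ((Curv2.euler k X M : ℤ) : ℚ) = _
      rw [Euler.euler_eq_sum k M 1 fun i hi => by
        obtain ⟨i, rfl⟩ := Nat.exists_eq_add_of_le' hi
        exact hn₀ N hN i]
      simp
    rw [hqn, Polynomial.eq_C_of_natDegree_le_zero hq, Polynomial.eval_C] at hχ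
    rw [hχ, Nat.cast_pos]
    haveI := S0002.result k X M (AmpleVan.isCoh_tensor QCoh.isCoh_structureModule'
      (AmpleVan.isCoh_invertible (InvX.isInvertible_tensorPow hL.1 N))) 0
    rw [Module.finrank_pos_iff]
    refine ⟨(Sheaf.H.equiv₀ (Coh.toAb M) isTerminalTop).symm (InvX.one (t ≫ φ.hom)), 0, fun h0 => ?_⟩
    have h1 : InvX.one (t ≫ φ.hom) = 0 := by
      have := congrArg (Sheaf.H.equiv₀ (Coh.toAb M) isTerminalTop) h0
      rwa [AddEquiv.apply_symm_apply, map_zero] at this
    have h2 : t = 0 := by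
      rw [← cancel_mono φ.hom, zero_comp]
      exact CurveRR.hom_ext_one h1
    have h3 : genericPoint X ∈ CohB1.genLocus _ t := ht ▸ hxs
    obtain ⟨V, hxV, hVf⟩ := InvX.mem_genLocus h3
    have h5 : InvX.one t = 0 := by rw [h2]; rfl
    have h4 : (1 : Γ(X, V)) = 0 := (hVf V le_rfl).1 (by simp only [h5, map_zero, smul_zero])
    haveI : Nontrivial Γ(X, V) := (X.presheaf.germ V _ hxV).hom.domain_nontrivial
    exact one_ne_zero h4
  | succ e ih =>
    intro X _ _ _ hdim L hL q hq hqn
    haveI := CurveCohLib.isNoetherian_of_proper (k := k) (X := X)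
    haveI := AmpleX.isSeparated_of_isAmple hL
    obtain ⟨ξ, hξd, hξne⟩ := exists_point_dim_pred hdim
    let V := Scheme.IdealSheafData.vanishingIdeal (⟨closure ({ξ} : Set X), isClosed_closure⟩ : Closeds X)
    have hses := CurveCohLib.Nonspecial.ideal_shortExact V
    have hI : Coh.IsCoh (ClSub.idealMod V) :=
      QCoh.isCoh_kernel QCoh.isCoh_structureModule' (QCoh.isCoh_push_structure V.subschemeι) (ClSub.toSubscheme V)
    obtain ⟨m₀, hm₀⟩ := AmpleX.eventually_isGloballyGenerated hL hI.1 hI.2
    let m := m₀ + 1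
    have hm := InvX.isInvertible_tensorPow hL.1 m
    haveI := AmpleVan.isEquivalence_tw hm
    let F := AmpleVan.tw (CohB1.tensorPow L m)
    have hgen : genericPoint X ∉ closure ({ξ} : Set X) := fun h => hξne (Set.eq_univ_of_univ_subset
      ((genericPoint_spec X).def.ge.trans (isClosed_closure.closure_subset_iff.2 (Set.singleton_subset_iff.2 h))))
    have hsuppQ : CohB1.support (ClSub.quotMod V) ⊆ closure ({ξ} : Set X) :=
      (QCoh.support_push_subset V.subschemeι QCoh.isQCoh_structureModule).trans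
        (H23.RedSub.range_vanishingIdeal _).le
    have hI0 : ¬ IsZero (ClSub.idealMod V) := fun h => by
      refine hgen (hsuppQ ?_)
      have hu := QCoh.support_subset_union hses hI.1 QCoh.isQCoh_structureModule (QCoh.isCoh_push_structure V.subschemeι).1
        (show genericPoint X ∈ CohB1.support (Coh.structureModule X) from fun hs =>
          haveI := hs
          not_subsingleton (X.presheaf.stalk (genericPoint X))
            ((InvX.isFrame_one (X := X) ⊤).germ_bijective (x := genericPoint X) trivial).1.subsingleton)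
      exact hu.resolve_left (by rw [QCoh.support_eq_empty_of_isZero h hI.1]; exact fun h => h)
    obtain ⟨σ, hσ⟩ : ∃ σ : Coh.structureModule X ⟶ F.obj (ClSub.idealMod V), σ ≠ 0 := by
      by_contra hcon
      push Not at hcon
      obtain ⟨ι, p, hp⟩ := hm₀ m (Nat.le_succ _)
      have h0 : p = 0 := Sigma.hom_ext _ _ fun i => by rw [hcon (Sigma.ι (fun _ : ι => Coh.structureModule X) i ≫ p), comp_zero]
      haveI := hp
      have : IsZero (F.obj (ClSub.idealMod V)) := IsZero.of_epi_eq_zero p h0
      exact hI0 ((IsZero.of_full_of_faithful_of_isZero F _ this))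
    obtain ⟨φ⟩ : Nonempty (F.obj (Coh.structureModule X) ≅ CohB1.tensorPow L m) := cl_eq_iff.1 (by
      show PicF.cl (CohB1.tensorMod _ _) = _
      rw [cl_tensor, ← H23.PicMul.one_def, one_mul])
    haveI : Mono (ClSub.idealModι V) := hses.mono_f
    let s : Coh.structureModule X ⟶ CohB1.tensorPow L m := σ ≫ F.map (ClSub.idealModι V) ≫ φ.hom
    have hs : s ≠ 0 := fun h => hσ (by
      rw [← cancel_mono (F.map (ClSub.idealModι V) ≫ φ.hom), zero_comp]
      exact h)
    haveI : Mono s := InvEnd.mono_of_ne_zero CurveDeg.isInvertible_structureModule hm s hs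
    let C := cokernel s
    have hCc : Coh.IsCoh C := QCoh.isCoh_cokernel QCoh.isQCoh_structureModule (AmpleVan.isCoh_invertible hm) s
    let T : Closeds X := ⟨_, QCoh.isClosed_support_of_isFT hCc.1 hCc.2⟩
    have hTd : topologicalKrullDim ↥(T : Set X) ≤ (e : WithBot ℕ∞) := by
      have hne : (T : Set X) ≠ Set.univ := fun h => by
        obtain ⟨x, hx⟩ := genLocus_nonempty hm s hs
        exact support_cokernel_subset hm s (h.ge (Set.mem_univ x)) hx
      have hfin : topologicalKrullDim X ≠ ⊤ := by
        rw [hdim]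
        exact (lt_of_lt_of_le (WithBot.coe_lt_coe.2 (ENat.natCast_lt_top (e + 1))) le_top).ne
      have hlt := H23.TopDim.dim_lt_of_ssubset hfin T.isClosed hne
      rw [hdim] at hlt
      revert hlt
      generalize topologicalKrullDim ↥(T : Set X) = v
      intro hlt
      cases v with
      | bot => exact bot_le
      | coe v =>
        refine WithBot.coe_le_coe.2 ((ENat.lt_add_one_iff (ENat.natCast_ne_top e)).1 ?_)
        have h' : v < ((e + 1 : ℕ) : ℕ∞) := WithBot.coe_lt_coe.1 hlt
        rwa [Nat.cast_add, Nat.cast_one] at h'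
    have hξC : ξ ∈ CohB1.support C := by
      let g : CohB1.tensorPow L m ⟶ F.obj (ClSub.quotMod V) := φ.inv ≫ F.map (ClSub.toSubscheme V)
      haveI : Epi (ClSub.toSubscheme V) := hses.epi_g
      haveI : Epi g := epi_comp _ _
      have hsg : s ≫ g = 0 := by
        simp only [s, g, Category.assoc, Iso.hom_inv_id_assoc, ← F.map_comp]
        rw [show ClSub.idealModι V ≫ ClSub.toSubscheme V = 0 from kernel.condition _, Functor.map_zero, comp_zero]
      haveI : Epi (cokernel.desc s g hsg) := epi_of_epi_fac (cokernel.π_desc s g hsg)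
      have hQ : Coh.IsQCoh (F.obj (ClSub.quotMod V)) := KFlatLib.isQCoh_tensor
        (QCoh.isCoh_push_structure V.subschemeι).1 (ProjUPX.isQCoh_of_isInvertible hm)
      refine QCoh.support_of_epi hCc.1 hQ (cokernel.desc s g hsg) ?_
      obtain ⟨D, hD, ⟨ψ⟩⟩ := H23.PicInv.exists_inverse hm
      obtain ⟨χ'⟩ : Nonempty (ClSub.quotMod V ≅ CohB1.tensorMod D (F.obj (ClSub.quotMod V))) := cl_eq_iff.1 (by
        show _ = PicF.cl (CohB1.tensorMod D (CohB1.tensorMod _ _))
        rw [cl_tensor, cl_tensor, mul_left_comm, mul_comm (PicF.cl D), ← cl_tensor, cl_eq_iff.2 ⟨ψ⟩, ← H23.PicMul.one_def, mul_one])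
      refine CurveTensor.support_tensor_subset (E := D) (F := F.obj (ClSub.quotMod V)) ?_
      show ξ ∈ CohB1.support (CohB1.tensorMod D (F.obj (ClSub.quotMod V)))
      rw [← QCoh.support_iso χ' (QCoh.isCoh_push_structure V.subschemeι).1]
      exact CurveCohLib.GlobGen.nontrivial_stalk_quotMod V
        (show ξ ∈ (V.support : Set X) by
          rw [← V.range_subschemeι, H23.RedSub.range_vanishingIdeal]; exact subset_closure rfl)
    let r : Polynomial ℚ := q.comp (Polynomial.X + Polynomial.C (m : ℚ)) - q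
    have hrn : ∀ n, Snapper.χ k L C n = r.eval (n : ℚ) := fun n => by
      have h := congrFun (Snapper.χ_add k hL.1 (S := ShortComplex.mk s (cokernel.π s) (cokernel.condition s))
        (.mk' (ShortComplex.exact_of_g_is_cokernel _ (cokernelIsCokernel s)) inferInstance inferInstance)
        QCoh.isCoh_structureModule' (AmpleVan.isCoh_invertible hm) hCc) n
      simp only [Pi.add_apply] at h
      have h2 : Snapper.χ k L (CohB1.tensorPow L m) n = Snapper.χ k L (Coh.structureModule X) (n + m) := by
        refine congrArg Int.cast (CurveCohLib.euler_congr (k := k) ((cl_eq_iff.1 ?_).some))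
        show PicF.cl (CohB1.tensorMod _ _) = PicF.cl (CohB1.tensorMod _ _)
        rw [cl_tensor, cl_tensor, cl_tensorPow, cl_tensorPow, cl_tensorPow, ← H23.PicMul.one_def, one_mul, ← pow_add,
          add_comm]
      rw [h2, hqn, hqn] at h
      simp only [r, Polynomial.eval_sub, Polynomial.eval_comp, Polynomial.eval_add, Polynomial.eval_X,
        Polynomial.eval_C]
      push_cast at h ⊢
      linarith
    have hrpos : 0 < r.coeff e := by
      refine coeff_pos_of_components k hL.1 hCc hTd subset_rfl hrn (fun η hη p hp hpn => ?_) hξC hξd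
      let W := Scheme.IdealSheafData.vanishingIdeal (⟨closure ({η} : Set X), isClosed_closure⟩ : Closeds X)
      letI : W.subscheme.Over (Spec (CommRingCat.of k)) := ⟨W.subschemeι ≫ (X ↘ Spec (CommRingCat.of k))⟩
      haveI : IsProper (W.subscheme ↘ Spec (CommRingCat.of k)) :=
        inferInstanceAs (IsProper (W.subschemeι ≫ (X ↘ Spec (CommRingCat.of k))))
      haveI : IsIntegral W.subscheme := QCoh.isIntegral_closure_point η
      refine ih (X := W.subscheme) ?_ (AmpleDev.isAmple_pullback_finite k W.subschemeι hL) p hp fun n =>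
        (χ_push k W.subschemeι rfl hL.1 QCoh.isQCoh_structureModule n).symm.trans (hpn n)
      rw [AmpleDev.dim_eq_one_of_closedImmersion W.subschemeι (H23.RedSub.range_vanishingIdeal _)]
      exact hη
    rw [coeff_comp_sub q hq] at hrpos
    exact pos_of_mul_pos_right hrpos (mul_nonneg (Nat.cast_nonneg _) (by positivity))

include k in
/-- Ample modules satisfy the positivity condition. -/
theorem pos_of_isAmple (hL : CohB1.IsAmple L) : Pos k L := by
  intro Z i hi hZ d _ hdim q hq hqn
  haveI := hi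
  haveI := hZ
  letI : Z.Over (Spec (CommRingCat.of k)) := ⟨i ≫ (X ↘ Spec (CommRingCat.of k))⟩
  haveI : IsProper (Z ↘ Spec (CommRingCat.of k)) :=
    inferInstanceAs (IsProper (i ≫ (X ↘ Spec (CommRingCat.of k))))
  exact coeff_pos_of_isAmple_integral k d hdim (AmpleDev.isAmple_pullback_finite k i hL) q hq fun n =>
    (χ_push k i rfl hL.1 QCoh.isQCoh_structureModule n).symm.trans (hqn n)

include k in
/-- Ample modules have positive leading coefficient. -/
theorem coeff_pos_of_isAmple (hL : CohB1.IsAmple L) {d : ℕ} (hdim : topologicalKrullDim X = d) {q : Polynomial ℚ}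
    (hqn : ∀ n, Snapper.χ k L (Coh.structureModule X) n = q.eval (n : ℚ)) : 0 < q.coeff d := by
  haveI := CurveCohLib.isNoetherian_of_proper (k := k) (X := X)
  obtain ⟨η, hη⟩ := exists_point_dim hdim
  refine coeff_pos_of_components k hL.1 QCoh.isCoh_structureModule' (C := ⊤)
    ((Topology.IsInducing.subtypeVal.topologicalKrullDim_le).trans hdim.le) (fun x _ => trivial) hqn
    (fun ξ hξ p hp hpn => ?_) (η := η) ?_ hη
  · let W := Scheme.IdealSheafData.vanishingIdeal (⟨closure ({ξ} : Set X), isClosed_closure⟩ : Closeds X)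
    letI : W.subscheme.Over (Spec (CommRingCat.of k)) := ⟨W.subschemeι ≫ (X ↘ Spec (CommRingCat.of k))⟩
    haveI : IsProper (W.subscheme ↘ Spec (CommRingCat.of k)) :=
      inferInstanceAs (IsProper (W.subschemeι ≫ (X ↘ Spec (CommRingCat.of k))))
    haveI : IsIntegral W.subscheme := QCoh.isIntegral_closure_point ξ
    refine coeff_pos_of_isAmple_integral k d ?_ (AmpleDev.isAmple_pullback_finite k W.subschemeι hL) p hp fun n =>
      (χ_push k W.subschemeι rfl hL.1 QCoh.isQCoh_structureModule n).symm.trans (hpn n)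
    rw [AmpleDev.dim_eq_one_of_closedImmersion W.subschemeι (H23.RedSub.range_vanishingIdeal _)]
    exact hξ
  · intro hs
    exact not_subsingleton (X.presheaf.stalk η)
      (haveI := hs; ((InvX.isFrame_one (X := X) ⊤).germ_bijective (x := η) trivial).1.subsingleton)

end Groth.Agent.Nakai
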